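import Cfsg.Agent.Lib.J1Unique.TwoCentral
import Cfsg.Agent.S2131
import Mathlib.GroupTheory.SpecificGroups.ZGroup

/-!
# Facts about the first Janko group, for groups isomorphic to it
-/

set_option autoImplicit false
set_option linter.style.haveILetI false

namespace Cfsg.Lib.J1Weak

open Subgroup Cfsg Cfsg.Lib.J1Order Cfsg.Lib.J1Unique

variable {L : Type*} [Group L]

theorem card_of_isoJ1 (h : Spor.IsoJ1 L) : Nat.card L = 175560 := by
  obtain ⟨φ⟩ := h
  rw [Nat.card_congr φ.toEquiv, Cfsg.Lib.H3.JankoOne.card_J]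

theorem orderOf_mem_spec (h : Spor.IsoJ1 L) (x : L) :
    orderOf x ∈ [1, 2, 3, 5, 6, 7, 10, 11, 15, 19] := by
  obtain ⟨φ⟩ := h
  rw [← MulEquiv.orderOf_eq φ x]
  exact Cfsg.Lib.J1.orderOf_mem _

theorem simple_of_isoJ1 (h : Spor.IsoJ1 L) : IsSimpleGroup L := by
  obtain ⟨φ⟩ := h
  haveI : IsSimpleGroup ↥Spor.J1 := Cfsg.Lib.H3.JankoOne.simple_J
  exact φ.isSimpleGroup

theorem finite_of_isoJ1 (h : Spor.IsoJ1 L) : Finite L :=
  Nat.finite_of_card_ne_zero (by rw [card_of_isoJ1 h]; norm_num)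

/-- Every involution is 2-central, with the model as centralizer, and all are conjugate. -/
theorem invol_facts (h : Spor.IsoJ1 L) {x : L} (hx : orderOf x = 2) :
    IsTwoCentralInvolution x ∧ Nonempty (Subgroup.centralizer ({x} : Set L) ≃* Model.M) ∧
      ∀ y : L, orderOf y = 2 → IsConj x y := by
  haveI := finite_of_isoJ1 h
  haveI := simple_of_isoJ1 h
  obtain ⟨φ⟩ := h
  haveI : IsSimpleGroup ↥Spor.J1 := Cfsg.Lib.H3.JankoOne.simple_J
  haveI : Finite ↥Spor.J1 :=
    Nat.finite_of_card_ne_zero (by rw [Cfsg.Lib.H3.JankoOne.card_J]; norm_num)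
  obtain ⟨u, hu, ⟨f⟩⟩ := Cfsg.Agent.S2131.result
  have hu' := isTwoCentral hu f (by rw [Cfsg.Lib.H3.JankoOne.card_J]; norm_num)
  have hx' : orderOf (φ x) = 2 := by rw [MulEquiv.orderOf_eq, hx]
  obtain ⟨g, hg⟩ := isConj_iff.1 (Local.isConj_invol hu' f hx')
  have hmem : ∀ z : L, z ∈ Subgroup.centralizer ({x} : Set L) ↔
      g⁻¹ * φ z * g ∈ Subgroup.centralizer ({u} : Set ↥Spor.J1) := by
    intro z
    rw [mem_centralizer_singleton_iff, mem_centralizer_singleton_iff,
      ← φ.injective.eq_iff, map_mul, map_mul, ← hg]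
    constructor
    · intro e
      calc g⁻¹ * φ z * g * u = g⁻¹ * (φ z * (g * u * g⁻¹)) * g := by group
        _ = u * (g⁻¹ * φ z * g) := by rw [e]; group
    · intro e
      calc φ z * (g * u * g⁻¹) = g * (g⁻¹ * φ z * g * u) * g⁻¹ := by group
        _ = g * u * g⁻¹ * φ z := by rw [e]; group
  let c : Subgroup.centralizer ({x} : Set L) ≃* Subgroup.centralizer ({u} : Set ↥Spor.J1) :=
    { toFun := fun z => ⟨g⁻¹ * φ z.1 * g, (hmem z.1).1 z.2⟩
      invFun := fun z => ⟨φ.symm (g * z.1 * g⁻¹), (hmem _).2 (by simp [mul_assoc])⟩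
      left_inv := fun z => Subtype.ext (by simp [mul_assoc])
      right_inv := fun z => Subtype.ext (by simp [mul_assoc])
      map_mul' := fun a b => Subtype.ext (by simp [mul_assoc]) }
  have h16 : ¬ 16 ∣ Nat.card L := by rw [card_of_isoJ1 ⟨φ⟩]; norm_num
  have hx'' := isTwoCentral hx (c.trans f) h16
  exact ⟨hx'', ⟨c.trans f⟩, fun y hy => Local.isConj_invol hx'' (c.trans f) hy⟩

/-- An element of order three or five commutes with an involution. -/
theorem exists_invol_commute (h : Spor.IsoJ1 L) {x : L} {p : ℕ} (hp : p = 3 ∨ p = 5)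
    (hx : orderOf x = p) : ∃ z : L, orderOf z = 2 ∧ Commute x z := by
  haveI := finite_of_isoJ1 h
  have hpp : p.Prime := by rcases hp with rfl | rfl <;> norm_num
  haveI : Fact p.Prime := ⟨hpp⟩
  obtain ⟨φ⟩ := h
  obtain ⟨g, hg⟩ := (Cfsg.Lib.J1.exists_orderOf_iff (n := 2 * p)).2 (by
    rcases hp with rfl | rfl <;> decide)
  set g' := φ.symm g
  have hg' : orderOf g' = 2 * p := by rw [MulEquiv.orderOf_eq, hg]
  have hgp : orderOf (g' ^ 2) = p := by
    rw [orderOf_pow' _ (by norm_num), hg', Nat.gcd_eq_right (dvd_mul_right 2 p)]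
    simp
  have hg2 : orderOf (g' ^ p) = 2 := by
    rw [orderOf_pow' _ hpp.ne_zero, hg', Nat.gcd_eq_right (dvd_mul_left p 2)]
    exact Nat.mul_div_cancel 2 hpp.pos
  have hcardp : ∀ y : L, orderOf y = p →
      Nat.card (zpowers y) = p ^ (Nat.card L).factorization p := by
    intro y hy
    rw [Nat.card_zpowers, hy, card_of_isoJ1 ⟨φ⟩]
    rcases hp with rfl | rfl
    · rw [show (175560 : ℕ) = 3 ^ 1 * 58520 by norm_num,
        factorization_eq Nat.prime_three (by norm_num)]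
      norm_num
    · rw [show (175560 : ℕ) = 5 ^ 1 * 35112 by norm_num,
        factorization_eq Nat.prime_five (by norm_num)]
      norm_num
  obtain ⟨k, hk⟩ := MulAction.exists_smul_eq L (Sylow.ofCard _ (hcardp (g' ^ 2) hgp))
    (Sylow.ofCard _ (hcardp x hx))
  have hxmem : x ∈ ((k • Sylow.ofCard _ (hcardp (g' ^ 2) hgp) : Sylow p L) : Subgroup L) := by
    rw [hk]; exact mem_zpowers x
  obtain ⟨y, hy, hyx⟩ := hxmem
  obtain ⟨j, rfl⟩ : ∃ j : ℤ, (g' ^ 2) ^ j = y := hy
  refine ⟨k * g' ^ p * k⁻¹, by rw [Cfsg.Lib.Invol.orderOf_conj_eq, hg2], ?_⟩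
  have hc : Commute ((g' ^ 2) ^ j) (g' ^ p) := ((Commute.refl g').pow_pow 2 p).zpow_left j
  have := hc.map (MulAut.conj k).toMonoidHom
  rw [← hyx]
  exact this

theorem cyclic_pair : ∀ a ∈ [1, 3, 5, 7, 11, 15, 19], ∀ b ∈ [1, 3, 5, 7, 11, 15, 19],
    Nat.Coprime a b → 57 < a * b → ∃ q ∈ [3, 5, 7, 11, 19], q ∣ b ∧
      a * q ∉ [1, 2, 3, 5, 6, 7, 10, 11, 15, 19] ∧ ∀ k < a, k ^ q % a = 1 % a → k = 1 % a := by
  decide +kernel

theorem spec_divisor : ∀ s ∈ [1, 2, 3, 5, 6, 7, 10, 11, 15, 19], ∀ d ∈ Nat.divisors s,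
    d % 2 = 1 → d ∈ [1, 3, 5, 7, 11, 15, 19] := by decide +kernel

/-- A subgroup of odd order and these element orders is metacyclic, of order at most 57. -/
theorem odd_subgroup {Y : Type*} [Group Y] [Finite Y] (hodd : Odd (Nat.card Y))
    (hdvd : Nat.card Y ∣ 175560) (hspec : ∀ y : Y, orderOf y ∈ [1, 2, 3, 5, 6, 7, 10, 11, 15, 19]) :
    Nat.card Y ≤ 57 ∧ ∃ (y z : Y) (b : ℕ), b ∣ orderOf z ∧ Nat.card Y = orderOf y * b := by
  have hsq : Squarefree (Nat.card Y) := by
    have h1 : Nat.card Y ∣ 2 ^ 3 * 21945 := by norm_num; exact hdvd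
    have h2 : Nat.card Y ∣ 21945 :=
      (Nat.Coprime.pow_right 3 (Nat.coprime_two_right.2 hodd)).dvd_of_dvd_mul_left h1
    exact Squarefree.squarefree_of_dvd h2 (by
      rw [Nat.squarefree_iff_prime_squarefree]
      intro p hp h
      have hle : p ≤ 148 := by
        have := Nat.le_of_dvd (by norm_num) h
        nlinarith
      have hsmall : ∀ p ≤ 148, 2 ≤ p → ¬ p * p ∣ 21945 := by decide +kernel
      exact hsmall p hle hp.two_le h)
  haveI : IsZGroup Y := IsZGroup.of_squarefree hsq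
  haveI := IsZGroup.isCyclic_commutator Y
  obtain ⟨⟨a, ha⟩, hgen⟩ := IsCyclic.exists_generator (α := commutator Y)
  obtain ⟨b, hb⟩ := IsCyclic.exists_generator (α := Abelianization Y)
  obtain ⟨y, rfl⟩ := QuotientGroup.mk_surjective b
  have hacard : orderOf a = Nat.card (commutator Y) := by
    rw [← orderOf_eq_card_of_forall_mem_zpowers hgen, Subgroup.orderOf_mk]
  have hbcard : (commutator Y).index = orderOf (QuotientGroup.mk y : Abelianization Y) := by
    exact (orderOf_eq_card_of_forall_mem_zpowers hb).symm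
  have hbdvd : (commutator Y).index ∣ orderOf y := by
    rw [hbcard]; exact orderOf_map_dvd (QuotientGroup.mk' (commutator Y)) y
  have hcard : orderOf a * (commutator Y).index = Nat.card Y := by
    rw [hacard]; exact (commutator Y).card_mul_index
  refine ⟨?_, a, y, _, hbdvd, hcard.symm⟩
  by_contra hbig
  have hodda : orderOf a % 2 = 1 := Nat.odd_iff.1 (hodd.of_dvd_nat (Dvd.intro _ hcard))
  have hoddb : (commutator Y).index % 2 = 1 :=
    Nat.odd_iff.1 (hodd.of_dvd_nat (Dvd.intro_left _ hcard))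
  obtain ⟨q, hqm, hqb, hnot, hk⟩ := cyclic_pair (orderOf a)
    (spec_divisor _ (hspec a) _ (Nat.mem_divisors.2 ⟨dvd_refl _, (orderOf_pos a).ne'⟩) hodda)
    _ (spec_divisor _ (hspec y) _ (Nat.mem_divisors.2 ⟨hbdvd, (orderOf_pos y).ne'⟩) hoddb)
    (hacard ▸ IsZGroup.coprime_commutator_index Y) (by omega)
  set c := y ^ (orderOf y / q) with hc
  have hqy : q ∣ orderOf y := hqb.trans hbdvd
  have hcq : orderOf c = q := orderOf_pow_orderOf_div (orderOf_pos y).ne' hqy
  have hcop : Nat.Coprime (orderOf a) q :=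
    Nat.Coprime.coprime_dvd_right hqb (hacard ▸ IsZGroup.coprime_commutator_index Y)
  have hmem : c * a * c⁻¹ ∈ commutator Y := Normal.conj_mem inferInstance a ha c
  obtain ⟨k, hk'⟩ := (mem_powers_iff_mem_zpowers.2 (hgen ⟨_, hmem⟩) :)
  have hk'' : c * a * c⁻¹ = a ^ k := by
    simpa using (congrArg (fun z : commutator Y => (z : Y)) hk').symm
  have hiter : ∀ n : ℕ, c ^ n * a * (c ^ n)⁻¹ = a ^ (k ^ n) := by
    intro n
    induction n with
    | zero => simp
    | succ n ih =>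
      calc c ^ (n + 1) * a * (c ^ (n + 1))⁻¹ = c * (c ^ n * a * (c ^ n)⁻¹) * c⁻¹ := by
            rw [pow_succ']; group
        _ = a ^ (k ^ (n + 1)) := by rw [ih, ← conj_pow, hk'', ← pow_mul, pow_succ']
  have h1 := hiter q
  rw [← hcq, pow_orderOf_eq_one, one_mul, inv_one, mul_one, hcq] at h1
  have h2 : k ^ q % orderOf a = 1 % orderOf a := pow_inj_mod.1 (h1.symm.trans (pow_one a).symm)
  have h3 := hk (k % orderOf a) (Nat.mod_lt _ (orderOf_pos a)) (by rw [← Nat.pow_mod, h2])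
  have hcomm : Commute c a := by
    refine mul_inv_eq_iff_eq_mul.1 ?_
    rw [hk'', ← pow_mod_orderOf, h3, pow_mod_orderOf, pow_one]
  have hord := hcomm.symm.orderOf_mul_eq_mul_orderOf_of_coprime (by rw [hcq]; exact hcop)
  rw [hcq] at hord
  exact hnot (hord ▸ hspec (a * c))

/-- With only the orders 7, 11, 19 the bound is 19. -/
theorem small_subgroup {Y : Type*} [Group Y] [Finite Y] (hodd : Odd (Nat.card Y))
    (hdvd : Nat.card Y ∣ 175560) (hspec : ∀ y : Y, orderOf y ∈ [1, 7, 11, 19]) :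
    Nat.card Y ≤ 19 := by
  obtain ⟨h57, y, z, h⟩ := odd_subgroup hodd hdvd fun w => by
    have := hspec w
    simp only [List.mem_cons, List.not_mem_nil, or_false] at this ⊢
    tauto
  have key : ∀ a ∈ [1, 7, 11, 19], ∀ c ∈ [1, 7, 11, 19], ∀ b ∈ Nat.divisors c,
      a * b ≤ 57 → a * b ≤ 19 ∨ a * b = 49 := by decide +kernel
  have h49 : Nat.card Y ≠ 49 := fun e => by rw [e] at hdvd; norm_num at hdvd
  obtain ⟨b, hb, h⟩ := h
  exact h ▸ (key _ (hspec y) _ (hspec z) _ (Nat.mem_divisors.2 ⟨hb, (orderOf_pos z).ne'⟩)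
    (h ▸ h57)).resolve_right (h ▸ h49)

end Cfsg.Lib.J1Weak
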