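import Cfsg.Agent.Lib.J1Weak.Setup

/-!
# The action of the Sylow normalizer and the centralizer of the involution
-/

set_option autoImplicit false
set_option linter.style.haveILetI false
set_option linter.unusedSectionVars false

namespace Cfsg.Lib.J1Weak

open Subgroup Cfsg Cfsg.Lib.J1Order Cfsg.Lib.J1Unique

variable {G : Type*} [Group G]

namespace Hyp

variable {t : G} (h : Hyp t)

/-- `g` acts on the Sylow subgroup by `f`. -/
def Acts (g : G) (f : Fin 8 → Fin 8) : Prop := ∀ n, g * h.psi (EM n) * g⁻¹ = h.psi (EM (f n))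

variable {g g' : G} {f f' : Fin 8 → Fin 8}

theorem acts_mul (a : h.Acts g f) (b : h.Acts g' f') : h.Acts (g * g') (f ∘ f') := fun n => by
  rw [Function.comp_apply, ← a, ← b]; group

theorem acts_one : h.Acts 1 id := fun n => by simp

theorem acts_pow (a : h.Acts g f) : ∀ k : ℕ, h.Acts (g ^ k) f^[k]
  | 0 => by simpa using h.acts_one
  | k + 1 => by rw [pow_succ', Function.iterate_succ']; exact h.acts_mul a (acts_pow a k)

theorem acts_unique (a : h.Acts g f) (b : h.Acts g f') : f = f' :=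
  funext fun n => EM_inj _ _ (h.psi_inj ((a n).symm.trans (b n)))

theorem acts_inv (a : h.Acts g f) (hf : ∀ n, f (f' n) = n) : h.Acts g⁻¹ f' := fun n => by
  have := a (f' n)
  rw [hf] at this
  rw [← this]
  group

theorem acts_mem (a : h.Acts g f) (hf : Function.Surjective f) :
    g ∈ Subgroup.normalizer (h.EG : Set G) := by
  refine Subgroup.mem_normalizer_iff.2 fun z => ⟨fun hz => ?_, fun hz => ?_⟩
  · obtain ⟨n, rfl⟩ := h.mem_EG.1 hz
    rw [a n]; exact h.mem_EG.2 ⟨_, rfl⟩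
  · obtain ⟨n, hn⟩ := h.mem_EG.1 hz
    obtain ⟨m, rfl⟩ := hf n
    rw [← a m] at hn
    exact h.mem_EG.2 ⟨m, by simpa using hn⟩

theorem exists_acts (hg : g ∈ Subgroup.normalizer (h.EG : Set G)) :
    ∃ f : Fin 8 → Fin 8, Function.Bijective f ∧ h.Acts g f ∧
      ∀ a b, f (xorF a b) = xorF (f a) (f b) := by
  have hex : ∀ n, ∃ m, h.psi (EM m) = g * h.psi (EM n) * g⁻¹ := fun n =>
    h.mem_EG.1 ((Subgroup.mem_normalizer_iff.1 hg _).1 (h.mem_EG.2 ⟨n, rfl⟩))
  choose f hf using hex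
  refine ⟨f, Finite.injective_iff_bijective.1 fun a b e => EM_inj _ _ (h.psi_inj ?_),
    fun n => (hf n).symm, fun a b => EM_inj _ _ (h.psi_inj ?_)⟩
  · have e1 := hf a
    rw [e, hf b] at e1
    simpa using e1.symm
  · rw [hf, ← EM_mul, ← EM_mul, map_mul, map_mul, hf, hf]; group

theorem acts_xM : h.Acts (h.psi xM) XP := fun n => by rw [← EM_XP]; simp

/-- `g` centralizes the centralizer of the Sylow subgroup modulo the Sylow subgroup. -/
def Triv (g : G) : Prop :=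
  g ∈ Subgroup.normalizer (h.EG : Set G) ∧
    ∀ c, (∀ n, c * h.psi (EM n) = h.psi (EM n) * c) → g * c * g⁻¹ * c⁻¹ ∈ h.EG

theorem conj_cent (hg : g ∈ Subgroup.normalizer (h.EG : Set G)) {c : G}
    (hc : ∀ n, c * h.psi (EM n) = h.psi (EM n) * c) (n : Fin 8) :
    g⁻¹ * c * g * h.psi (EM n) = h.psi (EM n) * (g⁻¹ * c * g) := by
  obtain ⟨m, hm⟩ := h.mem_EG.1 ((Subgroup.mem_normalizer_iff.1 hg _).1 (h.mem_EG.2 ⟨n, rfl⟩))
  calc g⁻¹ * c * g * h.psi (EM n) = g⁻¹ * (c * (g * h.psi (EM n) * g⁻¹)) * g := by group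
    _ = g⁻¹ * ((g * h.psi (EM n) * g⁻¹) * c) * g := by rw [← hm, hc]
    _ = _ := by group

theorem triv_mul (a : h.Triv g) (b : h.Triv g') : h.Triv (g * g') := by
  refine ⟨mul_mem a.1 b.1, fun c hc => ?_⟩
  have := mul_mem ((Subgroup.mem_normalizer_iff.1 a.1 _).1 (b.2 c hc)) (a.2 c hc)
  convert this using 1
  group

theorem triv_inv (a : h.Triv g) : h.Triv g⁻¹ := by
  refine ⟨inv_mem a.1, fun c hc => ?_⟩
  have hc' : ∀ n, g⁻¹ * c * g * h.psi (EM n) = h.psi (EM n) * (g⁻¹ * c * g) := h.conj_cent a.1 hc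
  have := h.EG.inv_mem (a.2 _ hc')
  convert this using 1
  group

theorem triv_conj (a : h.Triv g) (hb : g' ∈ Subgroup.normalizer (h.EG : Set G)) :
    h.Triv (g' * g * g'⁻¹) := by
  refine ⟨mul_mem (mul_mem hb a.1) (inv_mem hb), fun c hc => ?_⟩
  have := (Subgroup.mem_normalizer_iff.1 hb _).1 (a.2 _ (h.conj_cent hb hc))
  convert this using 1
  group

theorem triv_pow (a : h.Triv g) : ∀ k : ℕ, h.Triv (g ^ k)
  | 0 => ⟨by simp, fun c _ => by simp⟩
  | k + 1 => by rw [pow_succ]; exact h.triv_mul (triv_pow a k) a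

variable [Finite G]

theorem exists_seven : ∃ (g : G) (a b c : Fin 8), g ∈ Subgroup.normalizer (h.EG : Set G) ∧
    h.Acts g (lin a b c) ∧ (∀ n, (lin a b c)^[7] n = n) ∧ ∃ n, lin a b c n ≠ n := by
  classical
  haveI : Fact (Nat.Prime 7) := ⟨by norm_num⟩
  set N := Subgroup.normalizer (h.EG : Set G)
  choose f hf using fun g : N => h.exists_acts g.2
  let ρ : N →* Equiv.Perm (Fin 8) := MonoidHom.mk' (fun g => Equiv.ofBijective _ (hf g).1) fun a b => by
    refine Equiv.ext fun n => ?_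
    exact congrFun (h.acts_unique (hf (a * b)).2.1 (h.acts_mul (hf a).2.1 (hf b).2.1)) n
  choose c hcN hc using fun n : {n : Fin 8 // n ≠ 0} => h.exists_conj_EM n.2
  set St := (N ⊓ Subgroup.centralizer ({t} : Set G)).subgroupOf N
  have hker : ρ.ker ≤ St := by
    intro g hg
    rw [mem_subgroupOf]
    refine ⟨g.2, mem_centralizer_singleton_iff.2 ?_⟩
    have h1 : f g 4 = 4 := congrArg (fun p : Equiv.Perm (Fin 8) => p 4) hg
    have := (hf g).2.1 4
    rw [h1, h.psi_four] at this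
    exact mul_inv_eq_iff_eq_mul.1 this
  let F : {n : Fin 8 // n ≠ 0} → N ⧸ St := fun n => QuotientGroup.mk ⟨c n, hcN n⟩
  have hF : Function.Bijective F := by
    constructor
    · intro i j e
      have e' := mem_centralizer_singleton_iff.1 (mem_subgroupOf.1 (QuotientGroup.eq.1 e)).2
      push_cast at e'
      refine Subtype.ext (EM_inj _ _ (h.psi_inj ?_))
      rw [← hc i, ← hc j]
      calc c i * t * (c i)⁻¹ = c i * (t * ((c i)⁻¹ * c j)) * (c j)⁻¹ := by group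
        _ = c j * t * (c j)⁻¹ := by rw [← e']; group
    · intro q
      obtain ⟨g, rfl⟩ := QuotientGroup.mk_surjective q
      have hn := (hf g).2.1 4
      rw [h.psi_four] at hn
      have hn0 : f g 4 ≠ 0 := by
        intro e
        rw [e, EM_vals.2.2.2.2.2, map_one, conj_eq_one_iff] at hn
        have := h.ord
        rw [hn, orderOf_one] at this
        norm_num at this
      refine ⟨⟨f g 4, hn0⟩, QuotientGroup.eq.2 ?_⟩
      rw [mem_subgroupOf]
      refine ⟨N.mul_mem (N.inv_mem (hcN _)) g.2, mem_centralizer_singleton_iff.2 ?_⟩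
      push_cast
      have h1 : (g : G) * t * (g : G)⁻¹ = c ⟨f g 4, hn0⟩ * t * (c ⟨f g 4, hn0⟩)⁻¹ := by rw [hc, hn]
      calc (c ⟨f g 4, hn0⟩)⁻¹ * g * t = (c ⟨f g 4, hn0⟩)⁻¹ * ((g : G) * t * (g : G)⁻¹) * g := by group
        _ = t * ((c ⟨f g 4, hn0⟩)⁻¹ * g) := by rw [h1]; group
  have h7 : St.index = 7 := by
    show Nat.card (N ⧸ St) = 7
    rw [← Nat.card_congr (Equiv.ofBijective F hF), Nat.card_eq_fintype_card]
    rfl
  have hdvd : 7 ∣ Nat.card ρ.range := by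
    rw [← index_ker, ← h7]; exact index_dvd_of_le hker
  obtain ⟨⟨_, ⟨g, rfl⟩⟩, hg⟩ := exists_prime_orderOf_dvd_card' (G := ρ.range) 7 hdvd
  rw [← Subgroup.orderOf_coe] at hg
  replace hg : orderOf (ρ g) = 7 := hg
  have hlin := eq_lin (f g) (hf g).2.2
  have e7 : h.Acts ((g : G) ^ 7) (f g)^[7] := h.acts_pow (hf g).2.1 7
  refine ⟨g, f g 1, f g 2, f g 4, g.2, hlin ▸ (hf g).2.1, fun n => ?_, ?_⟩
  · rw [← hlin]
    have h1 : f (g ^ 7) = id := by
      have : ρ (g ^ 7) = 1 := by rw [map_pow, ← hg, pow_orderOf_eq_one]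
      funext n
      exact congrArg (fun p : Equiv.Perm (Fin 8) => p n) this
    have h2 := (hf (g ^ 7)).2.1
    rw [h1] at h2
    have h3 : ((g ^ 7 : N) : G) = (g : G) ^ 7 := by simp
    rw [h3] at h2
    exact congrFun (h.acts_unique e7 h2) n
  · by_contra hall
    push Not at hall
    have : ρ g = 1 := Equiv.ext fun n => by
      show f g n = n
      rw [hlin]; exact hall n
    rw [this, orderOf_one] at hg
    norm_num at hg

/-- Conjugation by an element of the centralizer on the weak closure. -/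
theorem auto_cases {d : G} (hd : d * t = t * d) :
    (∃ m : Model.M, ∀ z, d * h.psi z * d⁻¹ = h.psi (m * z * m⁻¹)) ∨
      ∃ m : Model.M, ∀ z, d * h.psi z * d⁻¹ = h.psi (m * J1Unique.alpha z * m⁻¹) := by
  choose θ hθ using fun z => h.exists_psi (h.conj_WC hd (h.psi_mem z))
  let Θ : Model.M →* Model.M := MonoidHom.mk' θ fun a b => h.psi_inj (by
    rw [map_mul, hθ, hθ, hθ, map_mul]; group)
  have hinj : ∀ z, θ z = 1 → z = 1 := fun z e => h.psi_inj (by
    have := hθ z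
    rw [e, map_one] at this
    rw [map_one, conj_eq_one_iff.1 this.symm])
  have ht : θ Model.tM = Model.tM := h.psi_inj (by
    rw [hθ, h.psi_tM, hd, mul_inv_cancel_right])
  obtain ⟨ha3, ha1, hb5, hb1, hab, -⟩ := gen_facts
  have hx : (xM : Model.M) ^ 3 = 1 := by ext <;> simp [xM, ha3]
  have hc : (cM : Model.M) ^ 5 = 1 := by ext <;> simp [cM, hb5]
  have hxc : (xM⁻¹ * cM) ^ 2 = 1 := by ext <;> simp [xM, cM, hab]
  have hx' : θ xM ^ 3 = 1 := by
    show (Θ xM) ^ 3 = 1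
    rw [← map_pow, hx, map_one]
  have hc' : θ cM ^ 5 = 1 := by
    show (Θ cM) ^ 5 = 1
    rw [← map_pow, hc, map_one]
  have hxc' : ((θ xM)⁻¹ * θ cM) ^ 2 = 1 := by
    show ((Θ xM)⁻¹ * Θ cM) ^ 2 = 1
    rw [← map_inv, ← map_mul, ← map_pow, hxc, map_one]
  have fx : (θ xM).1 = 1 := odd_fst _ (by
    rw [show 15 = 3 * 5 from rfl, pow_mul, hx', one_pow])
  have fc : (θ cM).1 = 1 := odd_fst _ (by
    rw [show 15 = 5 * 3 from rfl, pow_mul, hc', one_pow])
  have nx : θ xM ≠ 1 := fun e => ha1 (congrArg Prod.snd (hinj _ e))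
  have nc : θ cM ≠ 1 := fun e => hb1 (congrArg Prod.snd (hinj _ e))
  have ext1 : ∀ (φ : Model.M →* Model.M), φ Model.tM = θ Model.tM → φ xM = θ xM → φ cM = θ cM →
      ∀ z, θ z = φ z := by
    intro φ e0 e2 e3 z
    obtain ⟨w, hw, rfl⟩ := List.mem_map.1 (wordsC_all z)
    have e1 : φ Model.vM = Θ Model.vM := by
      rw [vM_word]
      simp only [map_mul]
      show φ cM * φ xM * φ cM * φ cM * φ cM = θ cM * θ xM * θ cM * θ cM * θ cM
      rw [e2, e3]
    have hb : ∀ k, φ (baseM k) = Θ (baseM k)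
      | 0 => e0
      | 1 => e1
      | 2 => e2
      | 3 => e3
      | _ + 4 => by simp [baseM]
    show Θ (ev bM w) = φ (ev bM w)
    rw [ev_map Θ bM (fun g => Θ (bM g)) w fun g _ => rfl]
    refine (ev_map φ bM _ w fun g _ => ?_).symm
    simp only [bM, signed]
    split <;> simp [hb]
  rcases aut_pairs (θ xM).2
      ⟨by rw [← Prod.pow_snd, hx']; rfl, fun e => nx (Prod.ext fx e)⟩ (θ cM).2
      ⟨by rw [← Prod.pow_snd, hc']; rfl, fun e => nc (Prod.ext fc e),
        by rw [← Prod.snd_inv, ← Prod.snd_mul, ← Prod.pow_snd, hxc']; rfl⟩ with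
    ⟨m, ha, hb⟩ | ⟨m, ha, hb⟩
  · refine Or.inl ⟨(1, m), fun z => ?_⟩
    rw [← hθ, ext1 (MulAut.conj ((1, m) : Model.M)).toMonoidHom ?_ ?_ ?_ z]
    · rfl
    · rw [ht]
      show ((1, m) : Model.M) * Model.tM * ((1, m) : Model.M)⁻¹ = Model.tM
      rw [Model.tM_central, mul_inv_cancel_right]
    · refine Prod.ext (by rw [fx]; simp [xM]) ?_
      exact ha
    · refine Prod.ext (by rw [fc]; simp [cM]) ?_
      exact hb
  · refine Or.inr ⟨(1, m), fun z => ?_⟩
    rw [← hθ, ext1 ((MulAut.conj ((1, m) : Model.M)).toMonoidHom.comp J1Unique.alpha.toMonoidHom)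
      ?_ ?_ ?_ z]
    · rfl
    · rw [ht]
      show ((1, m) : Model.M) * J1Unique.alpha Model.tM * ((1, m) : Model.M)⁻¹ = Model.tM
      rw [alpha_tM, Model.tM_central, mul_inv_cancel_right]
    · refine Prod.ext (by rw [fx]; simp [xM, alpha_fst]) ?_
      exact ha
    · refine Prod.ext (by rw [fc]; simp [cM, alpha_fst]) ?_
      exact hb

/-- Elements of the centralizer induce inner automorphisms of the weak closure. -/
theorem inner {d : G} (hd : d * t = t * d) :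
    ∃ m : Model.M, ∀ z, d * h.psi z * d⁻¹ = h.psi (m * z * m⁻¹) := by
  refine (h.auto_cases hd).resolve_right ?_
  rintro ⟨m, hm⟩
  obtain ⟨g, a, b, c, hgN, hga, h7, hne⟩ := h.exists_seven
  obtain ⟨i, j, h4, h1⟩ := no_outer a b c ⟨h7, hne⟩
  have hα : h.Acts ((h.psi m)⁻¹ * d) AP := fun n => by
    rw [← EM_AP]
    calc (h.psi m)⁻¹ * d * h.psi (EM n) * ((h.psi m)⁻¹ * d)⁻¹
        = (h.psi m)⁻¹ * (d * h.psi (EM n) * d⁻¹) * h.psi m := by group
      _ = _ := by rw [hm]; simp only [map_mul, map_inv]; group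
  set u := (h.psi m)⁻¹ * d * g ^ (i : ℕ) * ((h.psi m)⁻¹ * d) * g ^ (j : ℕ)
  have hu : h.Acts u (((AP ∘ (lin a b c)^[(i : ℕ)]) ∘ AP) ∘ (lin a b c)^[(j : ℕ)]) :=
    h.acts_mul (h.acts_mul (h.acts_mul hα (h.acts_pow hga i)) hα) (h.acts_pow hga j)
  have hut : u * t = t * u := by
    have := hu 4
    simp only [Function.comp_apply, h4, h.psi_four] at this
    exact mul_inv_eq_iff_eq_mul.1 this
  have h1' := hu 1
  simp only [Function.comp_apply] at h1'
  refine h1 ((EM_fst _).1 ⟨?_, ?_⟩)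
  · rcases h.auto_cases hut with ⟨k, hk⟩ | ⟨k, hk⟩ <;> rw [hk] at h1' <;>
      rw [← h.psi_inj h1'] <;> simp [alpha_fst, ((EM_fst 1).2 (Or.inl rfl)).1]
  · intro e
    rw [e, EM_vals.2.2.2.2.2, map_one, conj_eq_one_iff, ← map_one h.psi] at h1'
    exact absurd (EM_inj 1 0 ((h.psi_inj h1').trans EM_vals.2.2.2.2.2.symm)) (by decide)

theorem exists_decomp {d : G} (hd : d * t = t * d) :
    ∃ m : Model.M, ∀ z, Commute ((h.psi m)⁻¹ * d) (h.psi z) := by
  obtain ⟨m, hm⟩ := h.inner hd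
  refine ⟨m, fun z => mul_inv_eq_iff_eq_mul.1 ?_⟩
  calc (h.psi m)⁻¹ * d * h.psi z * ((h.psi m)⁻¹ * d)⁻¹
      = (h.psi m)⁻¹ * (d * h.psi z * d⁻¹) * h.psi m := by group
    _ = h.psi z := by rw [hm]; simp only [map_mul, map_inv]; group

theorem cent_decomp {d : G} (hd : ∀ n, d * h.psi (EM n) = h.psi (EM n) * d) :
    ∃ n, ∀ z, Commute ((h.psi (EM n))⁻¹ * d) (h.psi z) := by
  obtain ⟨m, hm⟩ := h.exists_decomp (d := d) (by have := hd 4; rwa [h.psi_four] at this)
  rcases cent_EM m with hne | ⟨n, rfl⟩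
  · refine absurd (fun n => h.psi_inj ?_) hne
    rw [map_mul, map_mul]
    have h1 := (hm (EM n)).eq
    calc h.psi m * h.psi (EM n) = h.psi m * (h.psi (EM n) * ((h.psi m)⁻¹ * d)) * d⁻¹ * h.psi m := by group
      _ = d * h.psi (EM n) * d⁻¹ * h.psi m := by rw [← h1]; group
      _ = h.psi (EM n) * h.psi m := by rw [hd]; group
  · exact ⟨n, hm⟩

theorem triv_xM : h.Triv (h.psi xM) := by
  refine ⟨h.acts_mem h.acts_xM fun n => XP_surj n, fun c hc => ?_⟩
  obtain ⟨n, hn⟩ := h.cent_decomp hc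
  set r := (h.psi (EM n))⁻¹ * c with hr
  have hcr : c = h.psi (EM n) * r := by rw [hr]; group
  have : h.psi xM * c * (h.psi xM)⁻¹ * c⁻¹ = h.psi (EM (XP n)) * (h.psi (EM n))⁻¹ := by
    rw [hcr, ← EM_XP, map_mul, map_mul, map_inv]
    have e := (hn xM).eq
    calc h.psi xM * (h.psi (EM n) * r) * (h.psi xM)⁻¹ * (h.psi (EM n) * r)⁻¹
        = h.psi xM * h.psi (EM n) * (r * (h.psi xM)⁻¹ * r⁻¹) * (h.psi (EM n))⁻¹ := by group
      _ = _ := by
        rw [show r * (h.psi xM)⁻¹ * r⁻¹ = (r * h.psi xM * r⁻¹)⁻¹ by group, e, mul_inv_cancel_right]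
  rw [this]
  exact mul_mem (h.mem_EG.2 ⟨_, rfl⟩) (inv_mem (h.mem_EG.2 ⟨_, rfl⟩))

theorem fix_four {u : G} {f : Fin 8 → Fin 8} (hu : h.Acts u f) (hf : f 4 = 4) :
    ∃ l : Fin 3, ∀ n, f n = XP^[(l : ℕ)] n := by
  have hut : u * t = t * u := by
    have := hu 4
    rw [hf, h.psi_four] at this
    exact mul_inv_eq_iff_eq_mul.1 this
  obtain ⟨m, hm⟩ := h.inner hut
  obtain ⟨l, hl⟩ := EM_fix m fun n => ⟨f n, h.psi_inj (by rw [← hu, hm])⟩
  refine ⟨l, fun n => EM_inj _ _ (h.psi_inj ?_)⟩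
  rw [← hl, ← hm, hu]

end Hyp

end Cfsg.Lib.J1Weak
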