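import Cfsg.Agent.Lib.J1Weak.Core

/-!
# Consequences of the splitting
-/

set_option autoImplicit false
set_option linter.style.haveILetI false
set_option linter.unusedSectionVars false

namespace Cfsg.Lib.J1Weak

open Subgroup Cfsg Cfsg.Lib.J1Order Cfsg.Lib.J1Unique

variable {G : Type*} [Group G] [Finite G] {t : G}

theorem WC_le_of_conj {K : Subgroup G} (hK : K.Normal) (ht : t ∈ K) : WC t ≤ K := by
  rw [WC, Subgroup.closure_le]
  rintro x ⟨g, rfl, -⟩
  exact hK.conj_mem t ht g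

namespace Hyp.Core

variable {h : Hyp t} (c : h.Core)

include c

theorem spow (i : ℕ) : c.s ^ i * t * (c.s ^ i)⁻¹ = h.psi (EM (c.μ^[i] 4)) := by
  have := h.acts_pow c.acts i 4
  rwa [h.psi_four] at this

theorem invol_move {x : G} (hx : x ∈ WC t) (hx2 : orderOf x = 2) :
    ∃ w ∈ WC t, ∃ i : ℕ, w * c.s ^ i * t * (w * c.s ^ i)⁻¹ = x := by
  obtain ⟨n, hn, w, hw, rfl⟩ := h.invol_conj hx hx2
  obtain ⟨i, hi⟩ := c.orbit n hn
  refine ⟨w, hw, i, ?_⟩
  rw [← hi, ← c.spow i]
  group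

theorem cent_mem {d : G} (hd : d * t = t * d) : ∃ w ∈ WC t, ∃ r ∈ c.R, d = w * r := by
  obtain ⟨m, hm⟩ := c.split d hd
  exact ⟨h.psi m, h.psi_mem m, _, hm, by group⟩

/-- A Sylow 2-subgroup containing the elementary abelian group centralizes it. -/
theorem sylow_cent {U : Sylow 2 G} (hU : h.EG ≤ U) {x : G} (hx : x ∈ (U : Subgroup G)) (n : Fin 8) :
    x * h.psi (EM n) = h.psi (EM n) * x := by
  haveI : Fact (Nat.Prime 2) := ⟨Nat.prime_two⟩
  obtain ⟨S, hS⟩ := h.exists_sylow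
  obtain ⟨k, hk⟩ := MulAction.exists_smul_eq G U S
  have hkN : k ∈ Subgroup.normalizer (h.EG : Set G) := h.map_EG_of_le hS fun a => by
    rw [← hk]; exact ⟨_, hU (h.mem_EG.2 ⟨a, rfl⟩), rfl⟩
  have hcS : ∀ y ∈ (S : Subgroup G), ∀ a, y * h.psi (EM a) = h.psi (EM a) * y := by
    intro y hy a
    obtain ⟨m, hm⟩ := c.split y (mem_centralizer_singleton_iff.1 (hS.1 hy))
    set r := (h.psi m)⁻¹ * y with hr
    have hy' : y = h.psi m * r := by rw [hr]; group
    have hyact : ∀ b, y * h.psi (EM b) * y⁻¹ = h.psi (m * EM b * m⁻¹) := fun b => by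
      rw [hy', map_mul, map_mul, map_inv]
      calc h.psi m * r * h.psi (EM b) * (h.psi m * r)⁻¹
          = h.psi m * (r * h.psi (EM b) * r⁻¹) * (h.psi m)⁻¹ := by group
        _ = _ := by rw [(c.commW r hm (EM b)).eq, mul_inv_cancel_right]
    obtain ⟨f, -, hf, -⟩ := h.exists_acts (h.le_normalizer hS hy)
    obtain ⟨l, hl⟩ := EM_fix m fun b => ⟨f b, h.psi_inj (by rw [← hf b, hyact b])⟩
    obtain ⟨j, hj⟩ := S.2 ⟨y, hy⟩
    have hj' : y ^ 2 ^ j = 1 := congrArg Subtype.val hj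
    have ha : h.Acts y XP^[(l : ℕ)] := fun b => by rw [hyact, hl]
    have h2 := h.acts_pow ha (2 ^ j)
    rw [hj'] at h2
    have h3 := h.acts_unique h.acts_one h2
    rw [← Function.iterate_mul] at h3
    have hmod : ∀ i n, XP^[i] n = XP^[i % 3] n := by
      intro i n
      conv_lhs => rw [← Nat.mod_add_div i 3]
      rw [Function.iterate_add_apply]
      congr 1
      induction i / 3 with
      | zero => rfl
      | succ q ih =>
        rw [Nat.mul_succ, Function.iterate_add_apply]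
        have : XP^[3] n = n := XP_three n
        rw [this, ih]
    have hl0 : (l : ℕ) = 0 := by
      have h4 := (congrFun h3 1).symm
      rw [hmod] at h4
      have : ∀ i < 3, XP^[i] 1 = 1 → i = 0 := by decide +kernel
      have h5 := this _ (Nat.mod_lt _ (by norm_num)) h4
      have : l.val = 0 ∨ l.val = 1 ∨ l.val = 2 := by omega
      rcases this with e | e | e
      · exact e
      · rw [e] at h5
        exfalso
        have := (Nat.Prime.dvd_of_dvd_pow Nat.prime_three (show 3 ∣ 2 ^ j from by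
          simpa using Nat.dvd_of_mod_eq_zero h5))
        norm_num at this
      · rw [e] at h5
        exfalso
        have h7 : 3 ∣ 2 * 2 ^ j := Nat.dvd_of_mod_eq_zero h5
        rw [← pow_succ'] at h7
        have := Nat.Prime.dvd_of_dvd_pow Nat.prime_three h7
        norm_num at this
    have := ha a
    rw [hl0, Function.iterate_zero, id] at this
    exact mul_inv_eq_iff_eq_mul.1 this
  have hxS : k * x * k⁻¹ ∈ (S : Subgroup G) := by rw [← hk]; exact ⟨x, hx, rfl⟩
  obtain ⟨a, ha⟩ := h.mem_EG.1 ((Subgroup.mem_normalizer_iff.1 hkN _).1 (h.mem_EG.2 ⟨n, rfl⟩))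
  have h1 := hcS _ hxS a
  rw [ha] at h1
  calc x * h.psi (EM n) = k⁻¹ * (k * x * k⁻¹ * (k * h.psi (EM n) * k⁻¹)) * k := by group
    _ = h.psi (EM n) * x := by rw [h1]; group

/-- The hypothesis is inherited by subgroups containing the weak closure and `s`. -/
theorem inherit {H : Subgroup G} (hW : WC t ≤ H) (hs : c.s ∈ H) :
    Nonempty (Hyp (⟨t, hW h.t_mem⟩ : H)) := by
  haveI : Fact (Nat.Prime 2) := ⟨Nat.prime_two⟩
  set tH : H := ⟨t, hW h.t_mem⟩ with htH
  have hle : h.EG ≤ H := h.EG_le_WC.trans hW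
  obtain ⟨U, hU⟩ := (IsPGroup.of_card (n := 3) (by
    rw [Nat.card_congr (subgroupOfEquivOfLe hle).toEquiv, h.card_EG]; norm_num) :
    IsPGroup 2 (h.EG.subgroupOf H)).exists_le_sylow
  obtain ⟨U', hU'⟩ := (U.2.map H.subtype).exists_le_sylow
  have hEU : h.EG ≤ (U' : Subgroup G) := fun x hx => hU' ⟨⟨x, hle hx⟩, hU hx, rfl⟩
  have hmap : (WC tH).map H.subtype = WC t := by
    refine le_antisymm ?_ ?_
    · rw [WC, MonoidHom.map_closure, Subgroup.closure_le]
      rintro _ ⟨x, ⟨g, rfl, hg⟩, rfl⟩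
      exact h.conj_mem (g := (g : G)) (congrArg Subtype.val hg)
    · rw [WC, Subgroup.closure_le]
      rintro x ⟨g, hgx, hg⟩
      have hx : x ∈ WC t := Subgroup.subset_closure ⟨g, hgx, hg⟩
      have hx2 : orderOf x = 2 := by rw [hgx, Cfsg.Lib.Invol.orderOf_conj_eq, h.ord]
      obtain ⟨w, hw, i, hwi⟩ := c.invol_move hx hx2
      refine ⟨⟨x, hW hx⟩, Subgroup.subset_closure ⟨⟨w * c.s ^ i, mul_mem (hW hw) (pow_mem hs i)⟩,
        Subtype.ext hwi.symm, Subtype.ext hg⟩, rfl⟩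
  refine ⟨⟨by rw [htH, Subgroup.orderOf_mk, h.ord], ⟨U, fun x hx => ?_⟩,
    ((WC tH).equivMapOfInjective _ H.subtype_injective).trans
      ((MulEquiv.subgroupCongr hmap).trans h.e)⟩⟩
  refine mem_centralizer_singleton_iff.2 (Subtype.ext ?_)
  have := c.sylow_cent hEU (hU' ⟨x, hx, rfl⟩) 4
  rwa [h.psi_four] at this

end Hyp.Core

end Cfsg.Lib.J1Weak
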