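import Cfsg.Agent.Lib.J1Weak.Basic
import Cfsg.Agent.Lib.J1Weak.JFacts
import Mathlib.GroupTheory.Transfer

/-!
# Dividing out a central subgroup of prime order
-/

set_option autoImplicit false
set_option linter.style.haveILetI false
set_option linter.unusedSectionVars false

namespace Cfsg.Lib.J1Weak

open Subgroup Cfsg Cfsg.Lib.J1Order Cfsg.Lib.J1Unique
open scoped commutatorElement

universe u

/-- A central element of prime order of a perfect group with abelian Sylow subgroup is trivial. -/
theorem central_eq_one {N : Type*} [Group N] [Finite N] (hperf : commutator N = ⊤) {p : ℕ}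
    [Fact p.Prime] (P : Sylow p N) (hab : ∀ a ∈ (P : Subgroup N), ∀ b ∈ (P : Subgroup N), a * b = b * a)
    {z : N} (hzP : z ∈ (P : Subgroup N)) (hz : ∀ g, g * z = z * g) : z = 1 := by
  letI : CommGroup (P : Subgroup N) :=
    { (inferInstance : Group (P : Subgroup N)) with
      mul_comm := fun a b => Subtype.ext (hab _ a.2 _ b.2) }
  set φ : (P : Subgroup N) →* (P : Subgroup N) := MonoidHom.id _
  have key : ∀ (k : ℕ) (g₀ : N), g₀⁻¹ * z ^ k * g₀ ∈ (P : Subgroup N) → g₀⁻¹ * z ^ k * g₀ = z ^ k := by
    intro k g₀ _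
    rw [mul_assoc, ← ((show Commute g₀ z from hz g₀).pow_right k).eq, inv_mul_cancel_left]
  have htr := MonoidHom.transfer_eq_pow φ z key
  have h1 : MonoidHom.transfer φ z = 1 :=
    MonoidHom.mem_ker.1 (Abelianization.commutator_subset_ker _ (hperf ▸ mem_top z))
  rw [h1] at htr
  have h2 : z ^ (P : Subgroup N).index = 1 := (congrArg Subtype.val htr).symm
  obtain ⟨k, hk⟩ := P.2 ⟨z, hzP⟩
  have h3 : z ^ p ^ k = 1 := congrArg Subtype.val hk
  have hcop : Nat.Coprime (p ^ k) (P : Subgroup N).index :=
    Nat.Coprime.pow_left k ((Nat.Prime.coprime_iff_not_dvd Fact.out).2 P.not_dvd_index)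
  have := Nat.dvd_gcd (orderOf_dvd_of_pow_eq_one h3) (orderOf_dvd_of_pow_eq_one h2)
  rw [hcop.gcd_eq_one, Nat.dvd_one] at this
  exact orderOf_eq_one_iff.1 this

variable {G : Type u} [Group G] [Finite G] {t : G}

/-- Reduction modulo a central element of prime order. -/
theorem Hyp.Core.of_central {h : Hyp t} (c : h.Core) {r : G} (hrc : ∀ g, g * r = r * g)
    (hrp : (orderOf r).Prime)
    (ih : ∀ (G' : Type u) [Group G'] [Finite G'], Nat.card G' < Nat.card G → ∀ (t' : G'), Hyp t' →
      Spor.IsoJ1 ↥(Subgroup.normalClosure ({t'} : Set G'))) :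
    Spor.IsoJ1 ↥(Subgroup.normalClosure ({t} : Set G)) := by
  haveI : Fact (Nat.Prime 2) := ⟨Nat.prime_two⟩
  set Z := zpowers r with hZ
  haveI : Z.Normal := ⟨fun z hz g => by
    obtain ⟨k, rfl⟩ := hz
    show g * r ^ k * g⁻¹ ∈ Z
    rw [((show Commute g r from hrc g).zpow_right k).eq, mul_inv_cancel_right]
    exact zpow_mem (mem_zpowers r) k⟩
  have hZc : ∀ z ∈ Z, ∀ g, g * z = z * g := by
    rintro _ ⟨k, rfl⟩ g
    exact ((show Commute g r from hrc g).zpow_right k).eq
  have hWZ : ∀ x ∈ WC t, x ∈ Z → x = 1 := by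
    intro x hx hxZ
    obtain ⟨m, rfl⟩ := h.exists_psi hx
    rcases Model.center_cases m (fun n => h.psi_inj (by
      rw [map_mul, map_mul]; exact (hZc _ hxZ (h.psi n)).symm)) with e | e
    · rw [e, map_one]
    · exfalso
      rw [e, h.psi_tM] at hxZ
      have h1 := hZc t hxZ c.s
      have h2 := c.acts 4
      rw [h.psi_four, h1, mul_inv_cancel_right] at h2
      have hμ4 := EM_inj _ _ (h.psi_inj (h.psi_four.trans h2))
      obtain ⟨i, hi⟩ := c.orbit 1 (by decide)
      have : ∀ j, c.μ^[j] 4 = 4 := fun j => by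
        induction j with
        | zero => rfl
        | succ j ih => rw [Function.iterate_succ_apply', ih, ← hμ4]
      rw [this] at hi
      exact absurd hi (by decide)
  set π := QuotientGroup.mk' Z
  have hlt : Nat.card (G ⧸ Z) < Nat.card G := by
    rw [card_eq_card_quotient_mul_card_subgroup Z]
    exact lt_mul_of_one_lt_right Nat.card_pos (by rw [Nat.card_zpowers]; exact hrp.one_lt)
  have hord : orderOf (π t) = 2 := by
    refine orderOf_eq_prime (by rw [← map_pow, ← h.ord, pow_orderOf_eq_one, map_one]) fun e => ?_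
    have := hWZ t h.t_mem ((QuotientGroup.eq_one_iff t).1 e)
    have h2 := h.ord
    rw [this, orderOf_one] at h2
    norm_num at h2
  have hmap : (WC t).map π = WC (π t) := by
    refine le_antisymm ?_ ?_
    · rw [WC, MonoidHom.map_closure, Subgroup.closure_le]
      rintro _ ⟨x, ⟨g, rfl, hg⟩, rfl⟩
      exact Subgroup.subset_closure ⟨π g, by simp, by rw [← map_mul, hg, map_mul]⟩
    · rw [WC, Subgroup.closure_le]
      rintro x ⟨g, rfl, hg⟩
      obtain ⟨g, rfl⟩ := QuotientGroup.mk'_surjective Z g
      refine ⟨g * t * g⁻¹, h.conj_mem ?_, by simp [π]⟩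
      set y := g * t * g⁻¹ with hy
      have hy2 : orderOf y = 2 := by rw [hy, Cfsg.Lib.Invol.orderOf_conj_eq, h.ord]
      have hyy := Cfsg.Lib.Invol.inv_mul_self hy2
      have htt := Cfsg.Lib.Invol.inv_mul_self h.ord
      set z := y * t * y⁻¹ * t⁻¹ with hz
      have hzZ : z ∈ Z := by
        rw [← QuotientGroup.eq_one_iff, ← QuotientGroup.mk'_apply]
        have hπy : π y = π g * π t * (π g)⁻¹ := by simp [y]
        show π z = 1
        rw [hz, map_mul, map_mul, map_mul, map_inv, map_inv, hπy, hg, mul_inv_cancel_right,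
          mul_inv_cancel]
      by_contra hne
      have hyt : y * t * y⁻¹ = z * t := by rw [hz]; group
      have ht' : y * (z * t) * y⁻¹ = t := by
        rw [← hyt]
        calc y * (y * t * y⁻¹) * y⁻¹ = (y * y) * t * (y * y)⁻¹ := by group
          _ = t := by rw [hyy]; simp
      have hzz : z * z = 1 := by
        have h1 : y * (z * t) * y⁻¹ = z * (z * t) := by
          calc y * (z * t) * y⁻¹ = (y * z) * t * y⁻¹ := by group
            _ = z * (y * t * y⁻¹) := by rw [hZc z hzZ y]; group
            _ = z * (z * t) := by rw [hyt]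
        rw [ht', ← mul_assoc] at h1
        exact (mul_eq_right.1 h1.symm :)
      have hmem : z * t ∈ WC t := by
        rw [← hyt]
        refine h.conj_mem ?_
        rw [hyt, ← mul_assoc t z t, hZc z hzZ t]
      have hz1 : z ∈ WC t := by
        have := mul_mem hmem (inv_mem h.t_mem)
        rwa [mul_inv_cancel_right] at this
      have := hWZ z hz1 hzZ
      rw [this, one_mul] at hyt
      exact hne (mul_inv_eq_iff_eq_mul.1 hyt)
  obtain ⟨S, hS⟩ := h.exists_sylow
  have hinjW : Function.Injective (π.comp (WC t).subtype) := by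
    rw [injective_iff_map_eq_one]
    intro x hx
    exact Subtype.ext (hWZ x x.2 ((QuotientGroup.eq_one_iff (x : G)).1 hx))
  have hH : Hyp (π t) :=
    { ord := hord
      central := ⟨S.mapSurjective (QuotientGroup.mk'_surjective Z), by
        rintro _ ⟨x, hx, rfl⟩
        refine mem_centralizer_singleton_iff.2 ?_
        rw [← map_mul, mem_centralizer_singleton_iff.1 (hS.1 hx), map_mul]⟩
      e := (MulEquiv.subgroupCongr (hmap.symm.trans
        (by rw [MonoidHom.range_comp, Subgroup.range_subtype] :
          (WC t).map π = (π.comp (WC t).subtype).range))).trans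
        ((MonoidHom.ofInjective hinjW).symm.trans h.e) }
  have hJ := ih (G ⧸ Z) hlt (π t) hH
  set N := Subgroup.normalClosure ({t} : Set G)
  haveI hNn : N.Normal := Subgroup.normalClosure_normal
  have htN : t ∈ N := Subgroup.subset_normalClosure rfl
  have hWN : WC t ≤ N := WC_le_of_conj hNn htN
  have hNmap : N.map π = Subgroup.normalClosure ({π t} : Set (G ⧸ Z)) := by
    rw [Subgroup.map_normalClosure _ _ (QuotientGroup.mk'_surjective Z), Set.image_singleton]
  -- `N` is perfect
  have hperf : commutator N = ⊤ := by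
    set D := (commutator N).map N.subtype with hD
    have hDn : D.Normal := by
      rw [hD, map_subtype_commutator]
      infer_instance
    have hxD : ∀ a b : Model.M, h.psi ⁅a, b⁆ ∈ D := fun a b => by
      rw [hD, map_subtype_commutator, map_commutatorElement]
      exact commutator_mem_commutator (hWN (h.psi_mem a)) (hWN (h.psi_mem b))
    obtain ⟨a, b, hab⟩ : ∃ a b : Model.M, ⁅a, b⁆ = Model.vM := by
      have : ∃ a b : Model.A5, ⁅a, b⁆ = Model.invert := by decide +kernel
      obtain ⟨a, b, e⟩ := this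
      refine ⟨(1, a), (1, b), ?_⟩
      rw [commutatorElement_def] at e ⊢
      ext <;> simp [Model.vM, e]
    have htD : t ∈ D := by
      have h1 := hxD a b
      rw [hab, ← EM_vals.2.2.1] at h1
      obtain ⟨i, hi⟩ := c.orbit 1 (by decide)
      rw [← hi, ← c.spow] at h1
      have := hDn.conj_mem _ h1 (c.s ^ i)⁻¹
      convert this using 1
      group
    have hND : N ≤ D := Subgroup.normalClosure_le_normal (Set.singleton_subset_iff.2 htD)
    refine Subgroup.map_injective N.subtype_injective (le_antisymm ?_ ?_)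
    · rw [← MonoidHom.range_eq_map, Subgroup.range_subtype]; exact map_subtype_le _
    · rw [← MonoidHom.range_eq_map, Subgroup.range_subtype]; exact hND
  set ρ := π.comp N.subtype
  have hρ : ρ.range = Subgroup.normalClosure ({π t} : Set (G ⧸ Z)) := by
    rw [MonoidHom.range_comp, Subgroup.range_subtype, hNmap]
  have hkc : ∀ k ∈ ρ.ker, ∀ g : N, g * k = k * g := fun k hk g =>
    Subtype.ext (hZc _ ((QuotientGroup.eq_one_iff (k : G)).1 hk) (g : G))
  by_cases hker : ρ.ker = ⊥
  · obtain ⟨φ⟩ := hJ
    exact ⟨(MonoidHom.ofInjective ((MonoidHom.ker_eq_bot_iff ρ).1 hker)).trans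
      ((MulEquiv.subgroupCongr hρ).trans φ)⟩
  exfalso
  obtain ⟨k, hk, hk1⟩ := (ρ.ker.bot_or_exists_ne_one).resolve_left hker
  set p := orderOf r with hp
  haveI : Fact p.Prime := ⟨hrp⟩
  have hkord : orderOf k = p := by
    have hZk : orderOf (k : G) ∣ p := by
      have h1 := orderOf_dvd_natCard (⟨(k : G), (QuotientGroup.eq_one_iff (k : G)).1 hk⟩ : Z)
      rwa [Subgroup.orderOf_mk, Nat.card_zpowers] at h1
    rw [Subgroup.orderOf_coe] at hZk
    exact ((Nat.dvd_prime hrp).1 hZk).resolve_left fun e => hk1 (orderOf_eq_one_iff.1 e)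
  have hNcard : Nat.card N = p * 175560 := by
    rw [← ρ.ker.card_mul_index, index_ker, hρ, card_of_isoJ1 hJ]
    congr 1
    refine le_antisymm ?_ ?_
    · refine le_trans ?_ (le_of_eq (Nat.card_zpowers r))
      exact Nat.card_le_card_of_injective
        (fun k : ρ.ker => (⟨((k : N) : G), (QuotientGroup.eq_one_iff ((k : N) : G)).1 k.2⟩ : Z))
        fun a b e => Subtype.ext (Subtype.ext (congrArg Subtype.val e :))
    · rw [← hkord]
      exact Nat.le_of_dvd Nat.card_pos (by
        rw [← Subgroup.orderOf_mk k hk]; exact orderOf_dvd_natCard _)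
  obtain ⟨P, hP⟩ := (IsPGroup.of_card (n := 1) (by rw [Nat.card_zpowers, hkord, pow_one]) :
    IsPGroup p (zpowers k)).exists_le_sylow
  have hkP : k ∈ (P : Subgroup N) := hP (mem_zpowers k)
  refine hk1 (central_eq_one hperf P ?_ hkP (hkc k hk))
  have hPcard := P.card_eq_multiplicity
  rw [hNcard] at hPcard
  by_cases hp2 : p = 2
  · -- `P` is `EG × Z`
    have hP16 : Nat.card (P : Subgroup N) = 16 := by
      rw [hPcard, hp2, show 2 * 175560 = 2 ^ 4 * 21945 by norm_num,
        factorization_eq Nat.prime_two (by norm_num)]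
      norm_num
    let T : Subgroup N :=
      { carrier := {x | ∃ n, ∃ z ∈ ρ.ker, (x : G) = h.psi (EM n) * (z : G)}
        one_mem' := ⟨0, 1, one_mem _, by simp [EM_vals.2.2.2.2.2]⟩
        mul_mem' := by
          rintro x y ⟨n, z, hz, hx⟩ ⟨n', z', hz', hy⟩
          refine ⟨xorF n n', z * z', mul_mem hz hz', ?_⟩
          rw [← EM_mul, map_mul]
          push_cast
          rw [hx, hy]
          have e : h.psi (EM n') * (z : G) = z * h.psi (EM n') :=
            hZc _ ((QuotientGroup.eq_one_iff (z : G)).1 hz) _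
          simp only [mul_assoc]
          congr 1
          rw [← mul_assoc, ← e, mul_assoc]
        inv_mem' := by
          rintro x ⟨n, z, hz, hx⟩
          refine ⟨n, z⁻¹, inv_mem hz, ?_⟩
          push_cast
          rw [hx, mul_inv_rev, show (h.psi (EM n))⁻¹ = h.psi (EM n) from
            inv_eq_of_mul_eq_one_right (by rw [← map_mul, (EM_invol n).1, map_one])]
          exact (hZc _ (inv_mem ((QuotientGroup.eq_one_iff (z : G)).1 hz)) _).symm }
    have hcommT : ∀ a ∈ T, ∀ b ∈ T, a * b = b * a := by
      rintro a ⟨n, z, hz, ha⟩ b ⟨n', z', hz', hb⟩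
      refine Subtype.ext ?_
      push_cast
      have c1 : Commute (a : G) (b : G) := by
        rw [ha, hb]
        have cz : ∀ g, Commute g (z : G) := hZc _ ((QuotientGroup.eq_one_iff (z : G)).1 hz)
        have cz' : ∀ g, Commute g (z' : G) := hZc _ ((QuotientGroup.eq_one_iff (z' : G)).1 hz')
        exact Commute.mul_left (Commute.mul_right (h.psi_EM_comm n n') (cz' _)) ((cz _).symm)
      exact c1.eq
    have hkerp : Nat.card ρ.ker = 2 := by
      have h1 := ρ.ker.card_mul_index
      rw [index_ker, hρ, card_of_isoJ1 hJ, hNcard, hp2] at h1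
      omega
    have hTcard : Nat.card T = 2 ^ (Nat.card N).factorization 2 := by
      let F : Fin 8 × ρ.ker → T := fun q => ⟨⟨h.psi (EM q.1), hWN (h.psi_mem _)⟩ * q.2.1,
        q.1, q.2.1, q.2.2, rfl⟩
      have hF : Function.Bijective F := by
        constructor
        · rintro ⟨n, z⟩ ⟨n', z'⟩ e
          have e' : h.psi (EM n) * ((z : N) : G) = h.psi (EM n') * ((z' : N) : G) :=
            congrArg (fun x : T => ((x : N) : G)) e
          have e2 : π (h.psi (EM n)) = π (h.psi (EM n')) := by
            have e3 := congrArg π e'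
            rw [map_mul, map_mul, show π ((z : N) : G) = 1 from z.2,
              show π ((z' : N) : G) = 1 from z'.2, mul_one, mul_one] at e3
            exact e3
          have hn : n = n' := EM_inj _ _ (h.psi_inj (congrArg Subtype.val
            (@hinjW ⟨_, h.psi_mem (EM n)⟩ ⟨_, h.psi_mem (EM n')⟩ e2)))
          subst hn
          exact Prod.ext rfl (Subtype.ext (Subtype.ext (mul_left_cancel e')))
        · rintro ⟨x, n, z, hz, hx⟩
          exact ⟨(n, ⟨z, hz⟩), Subtype.ext (Subtype.ext hx.symm)⟩
      rw [← Nat.card_congr (Equiv.ofBijective F hF), Nat.card_prod, hkerp, hNcard, hp2,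
        show 2 * 175560 = 2 ^ 4 * 21945 by norm_num, factorization_eq Nat.prime_two (by norm_num)]
      simp
    have hp' : p = 2 := hp2
    intro a ha b hb
    obtain ⟨g, hg⟩ := MulAction.exists_smul_eq N
      (P : Sylow p N) (Sylow.ofCard T (hp'.symm ▸ hTcard) : Sylow p N)
    have hconj : ∀ a ∈ (P : Subgroup N), g * a * g⁻¹ ∈ T := fun a ha => by
      have : g * a * g⁻¹ ∈ ((g • P : Sylow p N) : Subgroup N) := ⟨a, ha, rfl⟩
      rwa [hg] at this
    have := hcommT _ (hconj a ha) _ (hconj b hb)
    calc a * b = g⁻¹ * (g * a * g⁻¹ * (g * b * g⁻¹)) * g := by group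
      _ = b * a := by rw [this]; group
  · -- cyclic modulo the centre
    have hsq : ¬ p ^ 2 ∣ 175560 := by
      intro hd
      have hd' : p ^ 2 ∣ 21945 := by
        have h1 : p ^ 2 ∣ 2 ^ 3 * 21945 := by norm_num; exact hd
        exact ((Nat.coprime_pow_primes 2 3 hrp Nat.prime_two hp2)).dvd_of_dvd_mul_left h1
      have hle : p ≤ 148 := by
        have := Nat.le_of_dvd (by norm_num) hd'
        nlinarith
      have hsmall : ∀ q ≤ 148, 2 ≤ q → ¬ q ^ 2 ∣ 21945 := by decide +kernel
      exact hsmall p hle hrp.two_le hd'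
    have hf2 : (p * 175560).factorization p ≤ 2 := by
      by_contra hgt
      have hd : p ^ 3 ∣ p * 175560 :=
        (pow_dvd_pow p (by omega)).trans (Nat.ordProj_dvd _ p)
      rw [pow_succ'] at hd
      exact hsq (Nat.dvd_of_mul_dvd_mul_left hrp.pos hd)
    intro a ha b hb
    rcases Nat.lt_or_ge ((p * 175560).factorization p) 2 with hlt2 | hge
    · have hle1 : Nat.card (P : Subgroup N) ∣ p := by
        rw [hPcard]
        calc p ^ (p * 175560).factorization p ∣ p ^ 1 := pow_dvd_pow p (by omega)
          _ = p := pow_one p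
      rcases (Nat.dvd_prime hrp).1 hle1 with e | e
      · haveI := (Nat.card_eq_one_iff_unique.1 e).1
        exact congrArg Subtype.val (Subsingleton.elim (⟨a * b, mul_mem ha hb⟩ : (P : Subgroup N)) ⟨b * a, mul_mem hb ha⟩)
      · haveI := isCyclic_of_prime_card e
        letI := IsCyclic.commGroup (α := (P : Subgroup N))
        exact congrArg Subtype.val (mul_comm (⟨a, ha⟩ : (P : Subgroup N)) ⟨b, hb⟩)
    · have h2 : Nat.card (P : Subgroup N) = p ^ 2 := by rw [hPcard]; congr 1; omega
      exact congrArg Subtype.val (IsPGroup.commutative_of_card_eq_prime_sq h2 ⟨a, ha⟩ ⟨b, hb⟩)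

end Cfsg.Lib.J1Weak
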