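import Cfsg.Agent.Lib.J1Weak.Act

/-!
# The centralizer of the involution splits
-/

set_option autoImplicit false
set_option linter.style.haveILetI false
set_option linter.unusedSectionVars false

namespace Cfsg.Lib.J1Weak

open Subgroup Cfsg Cfsg.Lib.J1Order Cfsg.Lib.J1Unique

variable {G : Type*} [Group G]

theorem iterate_mul_mod {f : Fin 8 → Fin 8} (h7 : ∀ n, f^[7] n = n) (k : ℕ) (n : Fin 8) :
    f^[k] n = f^[k % 7] n := by
  conv_lhs => rw [← Nat.mod_add_div k 7]
  rw [Function.iterate_add_apply]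
  congr 1
  have : ∀ j, f^[7 * j] n = n := by
    intro j
    induction j with
    | zero => rfl
    | succ j ih => rw [Nat.mul_succ, Function.iterate_add_apply, h7, ih]
  exact this _

theorem iterate_xor {f : Fin 8 → Fin 8} (hf : ∀ a b, f (xorF a b) = xorF (f a) (f b)) :
    ∀ (k : ℕ) a b, f^[k] (xorF a b) = xorF (f^[k] a) (f^[k] b)
  | 0, _, _ => rfl
  | k + 1, a, b => by
    simp only [Function.iterate_succ', Function.comp_apply, iterate_xor hf k, hf]

theorem iterate_comp_conj {f X : Fin 8 → Fin 8} {k : ℕ} (h : ∀ n, f^[k] (X n) = X (f n)) :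
    ∀ (j : ℕ) n, f^[k * j] (X n) = X (f^[j] n)
  | 0, _ => rfl
  | j + 1, n => by
    rw [Nat.mul_succ, Function.iterate_add_apply, h, iterate_comp_conj h j, ← Function.iterate_succ_apply]

namespace Hyp

variable {t : G}

/-- The data extracted from the hypothesis: an element `s` moving `t` through all involutions of
the Sylow subgroup, and a complement `R` of the weak closure in the centralizer of `t`. -/
structure Core (h : Hyp t) where
  s : G
  μ : Fin 8 → Fin 8
  R : Subgroup G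
  acts : h.Acts s μ
  orbit : ∀ n, n ≠ 0 → ∃ i : ℕ, μ^[i] 4 = n
  commW : ∀ r ∈ R, ∀ m, Commute r (h.psi m)
  commS : ∀ r ∈ R, Commute r s
  memR : ∀ r : G, (∀ m, Commute r (h.psi m)) → Commute r s → r ∈ R
  split : ∀ d : G, d * t = t * d → ∃ m, (h.psi m)⁻¹ * d ∈ R
  disj : ∀ m, h.psi m ∈ R → m = 1
  memN : ∀ K : Subgroup G, K.Normal → h.psi xM ∈ K → s ∈ K

variable (h : Hyp t) [Finite G]

theorem exists_core : Nonempty h.Core := by
  classical
  obtain ⟨g, a, b, c, hgN, hga, h7, hne⟩ := h.exists_seven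
  set f := lin a b c with hfdef
  have hfadd : ∀ u v, f (xorF u v) = xorF (f u) (f v) := by
    obtain ⟨f', -, hf', hadd⟩ := h.exists_acts hgN
    rwa [h.acts_unique hga hf']
  obtain ⟨hfix, horb, hfree⟩ := seven_orbit a b c ⟨h7, hne⟩
  have hk : (∀ n, f^[2] (XP n) = XP (f n)) ∨ ∀ n, f^[4] (XP n) = XP (f n) :=
    exponent_cases a b c ⟨h7, hne⟩ fun i j hij =>
      h.fix_four (f := fun n => f^[(i : ℕ)] (XP (f^[(j : ℕ)] n)))
        (h.acts_mul (h.acts_pow hga i) (h.acts_mul h.acts_xM (h.acts_pow hga j))) hij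
  obtain ⟨k, hk1, hk7, hfk⟩ : ∃ k, 1 < k ∧ k < 7 ∧ ∀ n, f^[k] (XP n) = XP (f n) := by
    rcases hk with e | e
    exacts [⟨2, by norm_num, by norm_num, e⟩, ⟨4, by norm_num, by norm_num, e⟩]
  set x := h.psi xM with hx
  set q := x * g * x⁻¹ * g⁻¹ with hq
  have hqt : h.Triv q := by
    have : q = x * (g * x⁻¹ * g⁻¹) := by rw [hq]; group
    rw [this]
    exact h.triv_mul h.triv_xM (h.triv_conj (h.triv_inv h.triv_xM) hgN)
  set τ := f^[k - 1]
  have hxg : ∀ n, x * g * x⁻¹ * h.psi (EM n) * (x * g * x⁻¹)⁻¹ = h.psi (EM (f^[k] n)) := by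
    intro n
    obtain ⟨m, rfl⟩ := XP_surj n
    rw [hfk, ← h.acts_xM, ← h.acts_xM, ← hga]
    rw [hx]; group
  have hqa : h.Acts q τ := by
    intro n
    have e : h.psi (EM n) = g * h.psi (EM (f^[6] n)) * g⁻¹ := by
      rw [hga, ← Function.iterate_succ_apply' f 6, h7]
    calc q * h.psi (EM n) * q⁻¹
        = x * g * x⁻¹ * h.psi (EM (f^[6] n)) * (x * g * x⁻¹)⁻¹ := by rw [e, hq]; group
      _ = h.psi (EM (τ n)) := by
        rw [hxg, ← Function.iterate_add_apply, iterate_mul_mod h7 (k + 6),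
          show (k + 6) % 7 = (k - 1) % 7 by omega, ← iterate_mul_mod h7]
  have hτ : ∀ n, τ^[k] (XP n) = XP (τ n) := fun n => by
    show (f^[k - 1])^[k] (XP n) = XP (f^[k - 1] n)
    rw [← Function.iterate_mul, mul_comm, iterate_comp_conj hfk]
  -- work modulo the Sylow subgroup
  set N := Subgroup.normalizer (h.EG : Set G)
  set E' := h.EG.subgroupOf N
  haveI : E'.Normal := Subgroup.normal_in_normalizer
  have hxN : x ∈ N := h.triv_xM.1
  have hqN : q ∈ N := hqt.1
  set z := (q ^ k)⁻¹ * (x * q * x⁻¹) with hz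
  have hzN : z ∈ N := mul_mem (inv_mem (pow_mem hqN k)) (mul_mem (mul_mem hxN hqN) (inv_mem hxN))
  have hzc : ∀ n, z * h.psi (EM n) = h.psi (EM n) * z := fun n => by
    have e1 : x * q * x⁻¹ * h.psi (EM n) * (x * q * x⁻¹)⁻¹ = h.psi (EM (τ^[k] n)) := by
      obtain ⟨m, rfl⟩ := XP_surj n
      rw [hτ, ← h.acts_xM, ← h.acts_xM, ← hqa]
      rw [hx]; group
    have e2 := h.acts_pow hqa k n
    refine mul_inv_eq_iff_eq_mul.1 ?_
    calc z * h.psi (EM n) * z⁻¹
        = (q ^ k)⁻¹ * (x * q * x⁻¹ * h.psi (EM n) * (x * q * x⁻¹)⁻¹) * q ^ k := by rw [hz]; group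
      _ = h.psi (EM n) := by rw [e1, ← e2]; group
  have comm_bar : ∀ (u : G) (hu : h.Triv u), Commute (QuotientGroup.mk' E' ⟨u, hu.1⟩)
      (QuotientGroup.mk' E' ⟨z, hzN⟩) := by
    intro u hu
    refine commutatorElement_eq_one_iff_mul_comm.1 ?_
    rw [← map_commutatorElement, QuotientGroup.mk'_apply, QuotientGroup.eq_one_iff, mem_subgroupOf,
      commutatorElement_def]
    exact hu.2 z hzc
  set X := QuotientGroup.mk' E' ⟨x, hxN⟩
  set Q := QuotientGroup.mk' E' ⟨q, hqN⟩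
  set Z := QuotientGroup.mk' E' ⟨z, hzN⟩
  have hXZ : Commute X Z := comm_bar x h.triv_xM
  have hQZ : Commute Q Z := comm_bar q hqt
  have hrel : X * Q * X⁻¹ = Q ^ k * Z := by
    rw [← map_pow, ← map_inv, ← map_mul, ← map_mul, ← map_mul]
    congr 1
    refine Subtype.ext ?_
    push_cast
    rw [hz]
    group
  set s := x * q * x⁻¹ * q⁻¹ with hs
  have hst : h.Triv s := by
    have : s = x * (q * x⁻¹ * q⁻¹) := by rw [hs]; group
    rw [this]
    exact h.triv_mul h.triv_xM (h.triv_conj (h.triv_inv h.triv_xM) hqt.1)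
  have hrel2 : ((s ^ k)⁻¹ * (x * s * x⁻¹)) ∈ h.EG := by
    have hS : QuotientGroup.mk' E' ⟨s, hst.1⟩ = X * Q * X⁻¹ * Q⁻¹ := by
      rw [← map_inv, ← map_inv, ← map_mul, ← map_mul, ← map_mul]
      congr 1
    have hS' : QuotientGroup.mk' E' ⟨s, hst.1⟩ = Q ^ (k - 1) * Z := by
      rw [hS, hrel, mul_assoc, ← hQZ.inv_left.eq, ← mul_assoc]
      congr 1
      rw [eq_comm, eq_mul_inv_iff_mul_eq, ← pow_succ, show k - 1 + 1 = k by omega]
    have hXQ : X * Q ^ (k - 1) * X⁻¹ = (Q ^ (k - 1)) ^ k * Z ^ (k - 1) := by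
      rw [← conj_pow, hrel, (hQZ.pow_left k).mul_pow, ← pow_mul, ← pow_mul, mul_comm]
    have key : (QuotientGroup.mk' E' ⟨s, hst.1⟩ ^ k)⁻¹ *
        (X * QuotientGroup.mk' E' ⟨s, hst.1⟩ * X⁻¹) = 1 := by
      rw [inv_mul_eq_one, hS', (hQZ.pow_left (k - 1)).mul_pow]
      calc (Q ^ (k - 1)) ^ k * Z ^ k = (Q ^ (k - 1)) ^ k * Z ^ (k - 1) * Z := by
            rw [mul_assoc, ← pow_succ, show k - 1 + 1 = k by omega]
        _ = X * Q ^ (k - 1) * X⁻¹ * (X * Z * X⁻¹) := by rw [hXQ, hXZ.eq, mul_inv_cancel_right]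
        _ = _ := by group
    rw [← map_pow, ← map_inv, ← map_inv, ← map_mul, ← map_mul, ← map_mul, QuotientGroup.mk'_apply,
      QuotientGroup.eq_one_iff, mem_subgroupOf] at key
    simpa using key
  set μ := τ^[k - 1]
  have hsa : h.Acts s μ := by
    intro n
    have e : h.psi (EM n) = q * h.psi (EM (τ^[6] n)) * q⁻¹ := by
      rw [hqa]
      congr 2
      show n = τ (τ^[6] n)
      rw [← Function.iterate_succ_apply' τ 6 n]
      show n = (f^[k - 1])^[7] n
      rw [← Function.iterate_mul, iterate_mul_mod h7, Nat.mul_mod_left]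
      rfl
    have e1 : x * q * x⁻¹ * h.psi (EM (τ^[6] n)) * (x * q * x⁻¹)⁻¹ =
        h.psi (EM (τ^[k] (τ^[6] n))) := by
      obtain ⟨m, hm⟩ := XP_surj (τ^[6] n)
      rw [← hm, hτ, ← h.acts_xM, ← h.acts_xM, ← hqa]
      rw [hx]; group
    calc s * h.psi (EM n) * s⁻¹
        = x * q * x⁻¹ * h.psi (EM (τ^[6] n)) * (x * q * x⁻¹)⁻¹ := by rw [e, hs]; group
      _ = h.psi (EM (μ n)) := by
        rw [e1, ← Function.iterate_add_apply]
        congr 2
        show (f^[k - 1])^[k + 6] n = (f^[k - 1])^[k - 1] n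
        rw [← Function.iterate_mul, ← Function.iterate_mul, iterate_mul_mod h7,
          iterate_mul_mod h7 ((k - 1) * (k - 1))]
        congr 1
        rw [Nat.mul_mod, show (k + 6) % 7 = (k - 1) % 7 by omega, ← Nat.mul_mod]
  set e := (k - 1) * (k - 1) % 7 with he
  have hμ : ∀ n, μ n = f^[e] n := fun n => by
    show (f^[k - 1])^[k - 1] n = _
    rw [← Function.iterate_mul, iterate_mul_mod h7]
  have hk24 : e ≠ 0 := by
    rw [he]
    have hc : k = 2 ∨ k = 3 ∨ k = 4 ∨ k = 5 ∨ k = 6 := by omega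
    rcases hc with rfl | rfl | rfl | rfl | rfl <;> norm_num
  have he7 : e < 7 := Nat.mod_lt _ (by norm_num)
  have hμadd : ∀ u v, μ (xorF u v) = xorF (μ u) (μ v) := fun u v => by
    rw [hμ, hμ, hμ]; exact iterate_xor hfadd e u v
  have hμfix : ∀ n, μ n = n → n = 0 := fun n hn =>
    hfree ⟨e, he7⟩ (fun h0 => hk24 (congrArg Fin.val h0)) n ((hμ n).symm.trans hn)
  have hμk : ∀ n, μ^[k] n = n → n = 0 := by
    intro n hn
    rw [show μ = f^[e] from funext hμ, ← Function.iterate_mul, iterate_mul_mod h7] at hn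
    refine hfree ⟨e * k % 7, Nat.mod_lt _ (by norm_num)⟩ (fun h0 => ?_) n hn
    have h0' : e * k % 7 = 0 := congrArg Fin.val h0
    have hdiv := (Nat.Prime.dvd_mul (by norm_num : Nat.Prime 7)).1 (Nat.dvd_of_mod_eq_zero h0')
    omega
  have horbit : ∀ n, n ≠ 0 → ∃ i : ℕ, μ^[i] 4 = n := by
    intro n hn
    obtain ⟨i, hi⟩ := horb n hn
    obtain ⟨j, hj⟩ : ∃ j : ℕ, e * j % 7 = i := by
      have : ∀ e < 7, e ≠ 0 → ∀ i < 7, ∃ j < 7, e * j % 7 = i := by decide
      obtain ⟨j, -, hj⟩ := this e he7 hk24 i i.2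
      exact ⟨j, hj⟩
    refine ⟨j, ?_⟩
    rw [show μ = f^[e] from funext hμ, ← Function.iterate_mul, iterate_mul_mod h7, hj, hi]
  let R : Subgroup G := Subgroup.centralizer (Set.range h.psi) ⊓ Subgroup.centralizer ({s} : Set G)
  have memR : ∀ r, r ∈ R ↔ (∀ m, Commute r (h.psi m)) ∧ Commute r s := fun r => by
    constructor
    · rintro ⟨h1, h2⟩
      exact ⟨fun m => (Subgroup.mem_centralizer_iff.1 h1 _ ⟨m, rfl⟩).symm,
        mem_centralizer_singleton_iff.1 h2⟩
    · rintro ⟨h1, h2⟩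
      refine ⟨Subgroup.mem_centralizer_iff.2 ?_, mem_centralizer_singleton_iff.2 h2⟩
      rintro _ ⟨m, rfl⟩
      exact (h1 m).symm
  refine ⟨⟨s, μ, R, hsa, horbit, fun r hr => ((memR r).1 hr).1, fun r hr => ((memR r).1 hr).2,
    fun r h1 h2 => (memR r).2 ⟨h1, h2⟩, fun d hd => ?_, fun m hm => ?_, fun K hK hxK => ?_⟩⟩
  · obtain ⟨m, hm⟩ := h.exists_decomp hd
    set r := (h.psi m)⁻¹ * d with hr
    have hrE : ∀ n, r * h.psi (EM n) = h.psi (EM n) * r := fun n => hm (EM n)
    obtain ⟨ε, hε⟩ := h.mem_EG.1 (hst.2 r hrE)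
    obtain ⟨u, hu⟩ : ∃ u, xorF (μ u) u = ε := by
      have hinj : Function.Injective fun u => xorF (μ u) u := by
        intro u v huv
        have huv' : xorF (μ u) u = xorF (μ v) v := huv
        have h1 : μ (xorF u v) = xorF u v := by
          have key : ∀ a b c d : Fin 8, xorF a b = xorF c d → xorF a c = xorF b d := by decide +kernel
          rw [hμadd]; exact key _ _ _ _ huv'
        have h2 := hμfix _ h1
        have key2 : ∀ a b : Fin 8, xorF a b = 0 → a = b := by decide +kernel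
        exact key2 _ _ h2
      exact Finite.injective_iff_surjective.1 hinj ε
    set r1 := h.psi (EM u) * r with hr1
    have hsr : Commute r1 s := by
      refine (mul_inv_eq_iff_eq_mul.1 ?_).symm
      calc s * r1 * s⁻¹ = (s * h.psi (EM u) * s⁻¹) * (s * r * s⁻¹ * r⁻¹) * r := by rw [hr1]; group
        _ = r1 := by
          rw [hsa, ← hε, ← map_mul, EM_mul, ← hu, (xor_surj (μ u) u).1]
    have hr1E : ∀ n, Commute r1 (h.psi (EM n)) := fun n =>
      Commute.mul_left (h.psi_EM_comm u n) (hrE n)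
    have hu4 : u = 0 ∨ u = 4 := by
      refine XP_fixed u ?_
      obtain ⟨ε₁, hε₁⟩ := h.mem_EG.1 hrel2
      set r2 := x * r1 * x⁻¹ with hr2
      have hxr : x * r * x⁻¹ = r := by rw [hx, ← (hm xM).eq, mul_inv_cancel_right]
      have e2 : r2 = h.psi (EM (xorF (XP u) u)) * r1 := by
        calc r2 = (x * h.psi (EM u) * x⁻¹) * (x * r * x⁻¹) := by rw [hr2, hr1]; group
          _ = _ := by
            have e4 : xorF (xorF (XP u) u) u = XP u := by
              have key : ∀ a b : Fin 8, xorF (xorF a b) b = a := by decide +kernel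
              exact key _ _
            rw [hxr, h.acts_xM, ← mul_assoc (h.psi (EM (xorF (XP u) u))), ← map_mul h.psi, EM_mul, e4]
      have hxs : x * s * x⁻¹ = s ^ k * h.psi (EM ε₁) := by rw [hε₁]; group
      have c1 : Commute r2 (x * s * x⁻¹) := hsr.map (MulAut.conj x).toMonoidHom
      have c2 : Commute r2 (s ^ k) := by
        have c3 : Commute r2 (h.psi (EM ε₁)) := by
          rw [e2]; exact Commute.mul_left (h.psi_EM_comm _ ε₁) (hr1E ε₁)
        have := c1.mul_right c3.inv_right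
        rwa [hxs, mul_inv_cancel_right] at this
      have c4 : Commute (h.psi (EM (xorF (XP u) u))) (s ^ k) := by
        have := c2.mul_left (hsr.pow_right k).inv_left
        rwa [e2, mul_inv_cancel_right] at this
      have h1 := h.acts_pow hsa k (xorF (XP u) u)
      rw [← c4.eq, mul_inv_cancel_right] at h1
      have h2 := hμk _ (EM_inj _ _ (h.psi_inj h1)).symm
      have key2 : ∀ a b : Fin 8, xorF a b = 0 → a = b := by decide +kernel
      exact key2 _ _ h2
    have hmem : r1 ∈ R := (memR r1).2 ⟨fun z => ?_, hsr⟩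
    · refine ⟨m * EM u, ?_⟩
      have : (h.psi (m * EM u))⁻¹ * d = r1 := by
        rw [map_mul, mul_inv_rev, mul_assoc, ← hr, hr1]
        congr 1
        rw [inv_eq_of_mul_eq_one_right]
        rw [← map_mul, (EM_invol u).1, map_one]
      rw [this]; exact hmem
    · refine Commute.mul_left ?_ (hm z)
      rcases hu4 with rfl | rfl
      · rw [EM_vals.2.2.2.2.2, map_one]; exact Commute.one_left _
      · rw [EM_vals.1, h.psi_tM]; exact (h.psi_comm z).symm
  · obtain ⟨h1, h2⟩ := (memR _).1 hm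
    rcases Model.center_cases m (fun z => h.psi_inj (by rw [map_mul, map_mul]; exact (h1 z).eq)) with
      e | e
    · exact e
    · exfalso
      subst e
      rw [← EM_vals.1] at h2
      have h3 := hsa 4
      rw [← h2.eq, mul_inv_cancel_right] at h3
      exact absurd (hμfix 4 (EM_inj _ _ (h.psi_inj h3)).symm) (by decide)
  · rw [hs, show x * q * x⁻¹ * q⁻¹ = x * (q * x⁻¹ * q⁻¹) by group]
    exact mul_mem hxK (hK.conj_mem _ (inv_mem hxK) q)

end Hyp

end Cfsg.Lib.J1Weak
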