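import Cfsg.Agent.Lib.J1Unique.ModelFacts

/-!
# Finite facts for the weak closure characterisation of the first Janko group
-/

set_option autoImplicit false
set_option maxRecDepth 100000
set_option synthInstance.maxSize 1024
set_option synthInstance.maxHeartbeats 400000

namespace Cfsg.Lib.J1Weak

open Cfsg.Lib.J1Order Cfsg.Lib.J1Unique

/-- The action of the outer automorphism. -/
def AP : Fin 8 → Fin 8 := ![0, 3, 2, 1, 4, 7, 6, 5]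

theorem EM_AP : ∀ n, J1Unique.alpha (EM n) = EM (AP n) := by decide +kernel

theorem alpha_fst : ∀ m, (J1Unique.alpha m).1 = m.1 := by decide +kernel

theorem alpha_tM : J1Unique.alpha Model.tM = Model.tM := by decide +kernel

theorem invol_EM : ∀ m : Model.M, (m * m = 1 ∧ m ≠ 1) →
    ∃ n, n ≠ 0 ∧ ∃ c : Model.M, c * EM n * c⁻¹ = m := by decide +kernel

theorem EM_fst : ∀ n : Fin 8, ((EM n).1 = 1 ∧ n ≠ 0) ↔ (n = 1 ∨ n = 2 ∨ n = 3) := by decide +kernel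

theorem EM_fix : ∀ m : Model.M, (∀ n, ∃ n', EM n' = m * EM n * m⁻¹) →
    ∃ j : Fin 3, ∀ n, m * EM n * m⁻¹ = EM (XP^[(j : ℕ)] n) := by decide +kernel

theorem XP_three : ∀ n, XP (XP (XP n)) = n := by decide +kernel

theorem XP_fixed : ∀ n, XP n = n → n = 0 ∨ n = 4 := by decide +kernel

theorem xor_surj : ∀ a b : Fin 8, xorF a (xorF a b) = b ∧ xorF a b = xorF b a := by decide +kernel

/-- The orbit of the central involution under the Sylow normalizer. -/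
theorem orbit_cases : ∀ O : Finset (Fin 8), (4 ∈ O ∧ 0 ∉ O ∧ (∀ n ∈ O, XP n ∈ O) ∧ (∃ n ∈ O, n ≠ 4)) →
    (O.card % 2 = 1 → ∀ n, n ≠ 0 → n ∈ O) ∧
    ∀ n, ∃ a b c : Fin 8, (a ∈ O ∨ a = 0) ∧ (b ∈ O ∨ b = 0) ∧ (c ∈ O ∨ c = 0) ∧
      n = xorF (xorF a b) c := by decide +kernel

theorem seven_orbit : ∀ a b c : Fin 8, ((∀ n, (lin a b c)^[7] n = n) ∧ ∃ n, lin a b c n ≠ n) →
    (∀ n, lin a b c n = n → n = 0) ∧
    (∀ n, n ≠ 0 → ∃ i : Fin 7, (lin a b c)^[(i : ℕ)] 4 = n) ∧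
    (∀ j : Fin 7, j ≠ 0 → ∀ n, (lin a b c)^[(j : ℕ)] n = n → n = 0) := by decide +kernel

theorem no_outer : ∀ a b c : Fin 8, ((∀ n, (lin a b c)^[7] n = n) ∧ ∃ n, lin a b c n ≠ n) →
    ∃ i j : Fin 7,
      AP ((lin a b c)^[(i : ℕ)] (AP ((lin a b c)^[(j : ℕ)] 4))) = 4 ∧
      ¬ (AP ((lin a b c)^[(i : ℕ)] (AP ((lin a b c)^[(j : ℕ)] 1))) = 1 ∨
        AP ((lin a b c)^[(i : ℕ)] (AP ((lin a b c)^[(j : ℕ)] 1))) = 2 ∨
        AP ((lin a b c)^[(i : ℕ)] (AP ((lin a b c)^[(j : ℕ)] 1))) = 3) := by decide +kernel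

theorem exponent_cases : ∀ a b c : Fin 8, ((∀ n, (lin a b c)^[7] n = n) ∧ ∃ n, lin a b c n ≠ n) →
    (∀ i j : Fin 7, (lin a b c)^[(i : ℕ)] (XP ((lin a b c)^[(j : ℕ)] 4)) = 4 →
      ∃ l : Fin 3, ∀ n, (lin a b c)^[(i : ℕ)] (XP ((lin a b c)^[(j : ℕ)] n)) = XP^[(l : ℕ)] n) →
    (∀ n, (lin a b c)^[2] (XP n) = XP (lin a b c n)) ∨
      ∀ n, (lin a b c)^[4] (XP n) = XP (lin a b c n) := by decide +kernel

/-- Pairs generating the alternating group in the same way. -/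
theorem aut_pairs : ∀ a : Model.A5, (a ^ 3 = 1 ∧ a ≠ 1) → ∀ b : Model.A5,
    (b ^ 5 = 1 ∧ b ≠ 1 ∧ (a⁻¹ * b) ^ 2 = 1) →
    (∃ m : Model.A5, m * xA * m⁻¹ = a ∧ m * Model.five * m⁻¹ = b) ∨
      ∃ m : Model.A5, m * (J1Unique.alpha (1, xA)).2 * m⁻¹ = a ∧ m * (J1Unique.alpha (1, Model.five)).2 * m⁻¹ = b := by
  decide +kernel

theorem gen_facts : xA ^ 3 = 1 ∧ xA ≠ 1 ∧ Model.five ^ 5 = 1 ∧ Model.five ≠ 1 ∧
    (xA⁻¹ * Model.five) ^ 2 = 1 ∧ xA⁻¹ * Model.five ≠ 1 := by decide +kernel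

theorem odd_fst : ∀ m : Model.M, (m ^ 15 = 1) → m.1 = 1 := by decide +kernel

theorem gen_words : ∀ m : Model.M, m ∈ wordsC.map (ev bM) := wordsC_all

theorem vM_word : Model.vM = cM * xM * cM * cM * cM := by decide +kernel

end Cfsg.Lib.J1Weak
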