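import Cfsg.Agent.Lib.J1Weak.Basic
import Cfsg.Agent.Lib.J1Weak.JFacts
import Cfsg.Agent.Lib.ZStar.Main
import Cfsg.Agent.Lib.Coprime.Generation

/-!
# The counting argument
-/

set_option autoImplicit false
set_option linter.style.haveILetI false
set_option linter.unusedSectionVars false

namespace Cfsg.Lib.J1Weak

open Subgroup Cfsg Cfsg.Lib.J1Order Cfsg.Lib.J1Unique

universe u

variable {G : Type u} [Group G] [Finite G] {t : G}

/-- The subgroup generated by the conjugates of `t` under `H`. -/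
def ncl (t : G) (H : Subgroup G) : Subgroup G :=
  Subgroup.closure {x | ∃ g ∈ H, x = g * t * g⁻¹}

theorem mem_ncl {g : G} {H : Subgroup G} (hg : g ∈ H) : g * t * g⁻¹ ∈ ncl t H :=
  Subgroup.subset_closure ⟨g, hg, rfl⟩

theorem ncl_mono {H K : Subgroup G} (h : H ≤ K) : ncl t H ≤ ncl t K :=
  Subgroup.closure_mono fun _ ⟨g, hg, e⟩ => ⟨g, h hg, e⟩

theorem ncl_le_normalClosure (H : Subgroup G) : ncl t H ≤ Subgroup.normalClosure ({t} : Set G) := by
  rw [ncl, Subgroup.closure_le]
  rintro x ⟨g, -, hx⟩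
  rw [hx]
  exact (Subgroup.normalClosure_normal (s := ({t} : Set G))).conj_mem t
    (Subgroup.subset_normalClosure (Set.mem_singleton t)) g

theorem le_normalizer_ncl (H : Subgroup G) : H ≤ Subgroup.normalizer (ncl t H : Set G) := by
  intro g hg
  have h1 : ∀ g ∈ H, (ncl t H).map (MulAut.conj g).toMonoidHom ≤ ncl t H := by
    intro g hg
    rw [ncl, MonoidHom.map_closure, Subgroup.closure_le]
    rintro _ ⟨_, ⟨k, hk, rfl⟩, rfl⟩
    refine Subgroup.subset_closure ⟨g * k, mul_mem hg hk, ?_⟩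
    show g * (k * t * k⁻¹) * g⁻¹ = _
    group
  refine Subgroup.mem_normalizer_iff.2 fun x => ⟨fun hx => h1 g hg ⟨x, hx, rfl⟩, fun hx => ?_⟩
  have := h1 g⁻¹ (inv_mem hg) ⟨_, hx, rfl⟩
  convert this using 1
  show x = g⁻¹ * (g * x * g⁻¹) * g⁻¹⁻¹
  group

theorem ncl_eq_map {H : Subgroup G} (ht : t ∈ H) :
    (Subgroup.normalClosure ({(⟨t, ht⟩ : H)} : Set H)).map H.subtype = ncl t H := by
  rw [Subgroup.normalClosure, MonoidHom.map_closure, ncl]
  congr 1
  ext x
  constructor
  · rintro ⟨y, hy, rfl⟩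
    obtain ⟨a, ha, hay⟩ := Group.mem_conjugatesOfSet_iff.1 hy
    obtain rfl : a = ⟨t, ht⟩ := ha
    obtain ⟨g, rfl⟩ := isConj_iff.1 hay
    exact ⟨g, g.2, rfl⟩
  · rintro ⟨g, hg, rfl⟩
    exact ⟨⟨g, hg⟩ * ⟨t, ht⟩ * ⟨g, hg⟩⁻¹, Group.mem_conjugatesOfSet_iff.2
      ⟨_, rfl, isConj_iff.2 ⟨_, rfl⟩⟩, rfl⟩

theorem odd_spec : ∀ n ∈ [1, 2, 3, 5, 6, 7, 10, 11, 15, 19], ¬ 2 ∣ n → ¬ 3 ∣ n → ¬ 5 ∣ n →
    n ∈ [1, 7, 11, 19] := by decide

set_option maxHeartbeats 4000000 in
/-- The counting argument: the subgroup `K = N(L)` is the whole group. -/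
theorem Hyp.Core.large {h : Hyp t} (c : h.Core)
    (hR : c.R ≠ ⊥) (hcent : ∀ r : G, (∀ g, g * r = r * g) → r = 1)
    (ih : ∀ (G' : Type u) [Group G'] [Finite G'], Nat.card G' < Nat.card G → ∀ (t' : G'), Hyp t' →
      Spor.IsoJ1 ↥(Subgroup.normalClosure ({t'} : Set G'))) :
    Spor.IsoJ1 ↥(Subgroup.normalClosure ({t} : Set G)) := by
  classical
  haveI : Fact (Nat.Prime 2) := ⟨Nat.prime_two⟩
  have htt := Cfsg.Lib.Invol.inv_mul_self h.ord
  -- proper centralizers containing the weak closure and `s`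
  have hbig : ∀ H : Subgroup G, WC t ≤ H → c.s ∈ H → H ≠ ⊤ → Spor.IsoJ1 ↥(ncl t H) := by
    intro H hW hs hne
    obtain ⟨hH⟩ := c.inherit hW hs
    have hlt : Nat.card H < Nat.card G :=
      lt_of_le_of_ne (Subgroup.card_le_card_group H) fun e => hne (Subgroup.eq_top_of_card_eq H e)
    obtain ⟨φ⟩ := ih H hlt _ hH
    exact ⟨((MulEquiv.subgroupCongr (ncl_eq_map (hW h.t_mem))).symm.trans
      ((Subgroup.normalClosure _).equivMapOfInjective _ H.subtype_injective).symm).trans φ⟩
  set CR := Subgroup.centralizer (c.R : Set G)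
  have hWCR : WC t ≤ CR := fun x hx => Subgroup.mem_centralizer_iff.2 fun r hr => by
    obtain ⟨m, rfl⟩ := h.exists_psi hx
    exact c.commW r hr m
  have hsCR : c.s ∈ CR := Subgroup.mem_centralizer_iff.2 fun r hr => c.commS r hr
  have hCr : ∀ r ∈ c.R, r ≠ 1 → CR ≤ Subgroup.centralizer ({r} : Set G) ∧
      Subgroup.centralizer ({r} : Set G) ≠ ⊤ := by
    intro r hr hr1
    refine ⟨Subgroup.centralizer_le (by simpa using hr), fun e => hr1 (hcent r fun g => ?_)⟩
    exact mem_centralizer_singleton_iff.1 (e ▸ mem_top g)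
  have hCRne : CR ≠ ⊤ := by
    obtain ⟨r, hr, hr1⟩ := c.R.bot_or_exists_ne_one.resolve_left hR
    intro e
    exact (hCr r hr hr1).2 (top_le_iff.1 (e ▸ (hCr r hr hr1).1))
  set L := ncl t CR with hLdef
  have hLJ : Spor.IsoJ1 ↥L := hbig CR hWCR hsCR hCRne
  have htCR : t ∈ CR := hWCR h.t_mem
  have htL : t ∈ L := by simpa using mem_ncl (t := t) (one_mem CR)
  have hLCR : L ≤ CR := by
    rw [hLdef, ncl, Subgroup.closure_le]
    rintro _ ⟨g, hg, rfl⟩
    exact mul_mem (mul_mem hg htCR) (inv_mem hg)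
  have hRL : ∀ r ∈ c.R, ∀ l ∈ L, Commute r l := fun r hr l hl =>
    Subgroup.mem_centralizer_iff.1 (hLCR hl) r hr
  have hWL : WC t ≤ L := by
    rw [WC, Subgroup.closure_le]
    rintro x ⟨g, hgx, hg⟩
    have hx : x ∈ WC t := Subgroup.subset_closure ⟨g, hgx, hg⟩
    obtain ⟨w, hw, i, rfl⟩ := c.invol_move hx (by rw [hgx, Cfsg.Lib.Invol.orderOf_conj_eq, h.ord])
    exact mem_ncl (mul_mem (hWCR hw) (pow_mem hsCR i))
  set K := Subgroup.normalizer (L : Set G)
  have hLK : L ≤ K := Subgroup.le_normalizer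
  have hCRK : CR ≤ K := le_normalizer_ncl CR
  have hRK : c.R ≤ K := fun r hr => by
    refine Subgroup.mem_normalizer_iff.2 fun x => ⟨fun hx => ?_, fun hx => ?_⟩
    · rw [(hRL r hr x hx).eq, mul_inv_cancel_right]; exact hx
    · have := (hRL r hr _ hx).eq
      have e : x = r * x * r⁻¹ := by
        calc x = r⁻¹ * (r * x * r⁻¹ * r) := by group
          _ = r * x * r⁻¹ := by rw [← this]; group
      rw [e]; exact hx
  have hrC : ∀ r ∈ c.R, r ≠ 1 → Subgroup.centralizer ({r} : Set G) ≤ K := by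
    intro r hr hr1
    obtain ⟨hle, hne⟩ := hCr r hr hr1
    have e : L = ncl t (Subgroup.centralizer ({r} : Set G)) := eq_of_le_of_card_ge (ncl_mono hle) (by
      rw [card_of_isoJ1 hLJ, card_of_isoJ1 (hbig _ (hWCR.trans hle) (hle hsCR) hne)])
    show _ ≤ Subgroup.normalizer (L : Set G)
    rw [e]
    exact le_normalizer_ncl _
  have hCtK : ∀ d, d * t = t * d → d ∈ K := fun d hd => by
    obtain ⟨w, hw, r, hr, rfl⟩ := c.cent_mem hd
    exact mul_mem (hLK (hWL hw)) (hRK hr)
  by_cases hK : K = ⊤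
  · haveI : L.Normal := Subgroup.normalizer_eq_top_iff.1 hK
    have e : Subgroup.normalClosure ({t} : Set G) = L := le_antisymm
      (Subgroup.normalClosure_le_normal (Set.singleton_subset_iff.2 htL)) (ncl_le_normalClosure CR)
    rw [e]
    exact hLJ
  exfalso
  obtain ⟨S, hS⟩ := h.exists_sylow
  have hSK : (S : Subgroup G) ≤ K := fun x hx => hCtK x (mem_centralizer_singleton_iff.1 (hS.1 hx))
  have hconjK : ∀ g : G, g * t * g⁻¹ ∈ K → ∃ k ∈ K, k * t * k⁻¹ = g * t * g⁻¹ := by
    intro g hg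
    have hx2 : orderOf (g * t * g⁻¹) = 2 := by rw [Cfsg.Lib.Invol.orderOf_conj_eq, h.ord]
    obtain ⟨Q, hQ⟩ := (IsPGroup.of_card (n := 1) (by
      rw [Nat.card_zpowers, Subgroup.orderOf_mk, hx2, pow_one]) :
        IsPGroup 2 (zpowers (⟨_, hg⟩ : K))).exists_le_sylow
    obtain ⟨k, hk⟩ := MulAction.exists_smul_eq K Q (S.subtype hSK)
    have hmem : k * ⟨_, hg⟩ * k⁻¹ ∈ ((k • Q : Sylow 2 K) : Subgroup K) :=
      ⟨_, hQ (mem_zpowers _), rfl⟩
    rw [hk] at hmem
    have hmem' : ((k : G) * g) * t * ((k : G) * g)⁻¹ ∈ (S : Subgroup G) := by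
      have h1 : (k : G) * (g * t * g⁻¹) * (k : G)⁻¹ ∈ (S : Subgroup G) := hmem
      convert h1 using 1
      group
    obtain ⟨n, hn⟩ := h.mem_EG.1 (h.mem_EG_of_conj hS hmem')
    have hn0 : n ≠ 0 := by
      rintro rfl
      rw [EM_vals.2.2.2.2.2, map_one] at hn
      have h2 := h.ord
      rw [conj_eq_one_iff.1 hn.symm, orderOf_one] at h2
      norm_num at h2
    obtain ⟨i, hi⟩ := c.orbit n hn0
    rw [← hi, ← c.spow] at hn
    refine ⟨(k : G)⁻¹ * c.s ^ i, mul_mem (inv_mem k.2) (pow_mem (hCRK hsCR) i), ?_⟩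
    calc (k : G)⁻¹ * c.s ^ i * t * ((k : G)⁻¹ * c.s ^ i)⁻¹
        = (k : G)⁻¹ * (c.s ^ i * t * (c.s ^ i)⁻¹) * k := by group
      _ = g * t * g⁻¹ := by rw [hn]; group
  have hfix : ∀ g : G, g * t * g⁻¹ ∈ K → g ∈ K := by
    intro g hg
    obtain ⟨k, hk, e⟩ := hconjK g hg
    have h1 : k⁻¹ * g ∈ K := hCtK _ (by
      calc k⁻¹ * g * t = k⁻¹ * (g * t * g⁻¹) * g := by group
        _ = t * (k⁻¹ * g) := by rw [← e]; group)
    have := mul_mem hk h1
    rwa [mul_inv_cancel_left] at this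
  haveI := finite_of_isoJ1 hLJ
  set tL : L := ⟨t, htL⟩
  have htL2 : orderOf tL = 2 := by rw [Subgroup.orderOf_mk, h.ord]
  obtain ⟨-, ⟨eL⟩, hconjL⟩ := invol_facts hLJ htL2
  have hCL : ∀ l ∈ L, l * t = t * l → l ∈ WC t := by
    intro l hl hlt
    have e : (WC t).subgroupOf L = Subgroup.centralizer ({tL} : Set L) := by
      refine eq_of_le_of_card_ge ?_ ?_
      · intro x hx
        exact mem_centralizer_singleton_iff.2
          (Subtype.ext (mem_centralizer_singleton_iff.1 (h.WC_le hx)))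
      · rw [Nat.card_congr eL.toEquiv, Nat.card_congr (subgroupOfEquivOfLe hWL).toEquiv,
          Nat.card_congr h.e.toEquiv]
    have h1 : (⟨l, hl⟩ : L) ∈ Subgroup.centralizer ({tL} : Set L) :=
      mem_centralizer_singleton_iff.2 (Subtype.ext hlt)
    rw [← e] at h1
    exact h1
  have hinter : ∀ r ∈ c.R, r ∈ L → r = 1 := by
    intro r hr hrL
    obtain ⟨m, rfl⟩ := h.exists_psi (hCL r hrL (by
      have := (c.commW r hr (EM 4)).eq; rwa [h.psi_four] at this))
    rw [c.disj m hr, map_one]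
  have hLinv : ∀ l ∈ L, l * l = 1 → l ≠ 1 → ∃ k ∈ L, k * t * k⁻¹ = l := by
    intro l hl hll hl1
    have ho : orderOf (⟨l, hl⟩ : L) = 2 := by
      rw [Subgroup.orderOf_mk]; exact orderOf_eq_prime (by rw [pow_two, hll]) hl1
    obtain ⟨k, hk⟩ := isConj_iff.1 (hconjL _ ho)
    exact ⟨k, k.2, congrArg Subtype.val hk⟩
  have hdec : ∀ k ∈ K, ∃ l ∈ L, ∃ r ∈ c.R, k = l * r := by
    intro k hk
    have hmem : k * t * k⁻¹ ∈ L := (Subgroup.mem_normalizer_iff.1 hk t).1 htL
    obtain ⟨l, hl, e⟩ := hLinv _ hmem (by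
      calc k * t * k⁻¹ * (k * t * k⁻¹) = k * (t * t) * k⁻¹ := by group
        _ = 1 := by rw [htt]; group) (fun e => by
      have h2 := h.ord
      rw [conj_eq_one_iff.1 e, orderOf_one] at h2
      norm_num at h2)
    obtain ⟨w, hw, r, hr, e'⟩ := c.cent_mem (d := l⁻¹ * k) (by
      calc l⁻¹ * k * t = l⁻¹ * (k * t * k⁻¹) * k := by group
        _ = t * (l⁻¹ * k) := by rw [← e]; group)
    exact ⟨l * w, mul_mem hl (hWL hw), r, hr, by rw [mul_assoc, ← e']; group⟩
  -- the involutions `t r`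
  have htr : ∀ r ∈ c.R, r * r = 1 → r ≠ 1 → ∀ d, d * (t * r) = t * r * d → d ∈ K := by
    intro r hr hrr hr1
    have hrt : r * t = t * r := by
      have := (c.commW r hr (EM 4)).eq; rwa [h.psi_four] at this
    set H := Subgroup.centralizer ({t * r} : Set G)
    have htH : t ∈ H := mem_centralizer_singleton_iff.2 (by
      calc t * (t * r) = t * (r * t) := by rw [hrt]
        _ = t * r * t := by group)
    have hiso : IsIsolatedInvolution (⟨t, htH⟩ : H) := by
      refine ⟨by rw [Subgroup.orderOf_mk, h.ord], fun g hg => Subtype.ext ?_⟩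
      set x := (g : G) * t * (g : G)⁻¹ with hx
      show x = t
      have hxt : x * t = t * x := (congrArg Subtype.val hg.eq).symm
      have hxW : x ∈ WC t := h.conj_mem hxt
      have hx2 : orderOf x = 2 := by rw [hx, Cfsg.Lib.Invol.orderOf_conj_eq, h.ord]
      by_contra hne
      have hy : x * t ∈ WC t := mul_mem hxW h.t_mem
      have hy2 : orderOf (x * t) = 2 := by
        refine orderOf_eq_prime ?_ fun e => hne ?_
        · rw [pow_two]
          calc x * t * (x * t) = x * (t * x) * t := by group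
            _ = (x * x) * (t * t) := by rw [← hxt]; group
            _ = 1 := by rw [Cfsg.Lib.Invol.inv_mul_self hx2, htt, one_mul]
        · rw [← inv_eq_of_mul_eq_one_left e, inv_eq_of_mul_eq_one_left htt]
      obtain ⟨w, hw, i, hwi⟩ := c.invol_move hy hy2
      set k := w * c.s ^ i with hk
      have hkr : Commute k r := by
        obtain ⟨m, rfl⟩ := h.exists_psi hw
        exact ((c.commW r hr m).mul_right ((c.commS r hr).pow_right i)).symm
      have hgtr : (g : G) * (t * r) * (g : G)⁻¹ = t * r := by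
        rw [mem_centralizer_singleton_iff.1 g.2, mul_inv_cancel_right]
      have h1 : (g : G) * r * (g : G)⁻¹ = k * (t * r) * k⁻¹ := by
        calc (g : G) * r * (g : G)⁻¹ = (g : G) * (t * (t * r)) * (g : G)⁻¹ := by
              rw [← mul_assoc t t r, htt, one_mul]
          _ = x * ((g : G) * (t * r) * (g : G)⁻¹) := by rw [hx]; group
          _ = (k * t * k⁻¹) * r := by rw [hgtr, hwi]; group
          _ = k * t * (k⁻¹ * r) := by group
          _ = k * (t * r) * k⁻¹ := by rw [hkr.inv_left.eq]; group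
      set q := k⁻¹ * (g : G) with hq
      have hqr : q * r * q⁻¹ = t * r := by
        calc q * r * q⁻¹ = k⁻¹ * ((g : G) * r * (g : G)⁻¹) * k := by rw [hq]; group
          _ = t * r := by rw [h1]; group
      have hqK : q ∈ K := by
        have h2 : q⁻¹ * t * q ∈ Subgroup.centralizer ({r} : Set G) := by
          refine mem_centralizer_singleton_iff.2 ?_
          have hr' : r = q⁻¹ * (t * r) * q := by rw [← hqr]; group
          have htc : t * (t * r) = t * r * t := mem_centralizer_singleton_iff.1 htH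
          calc q⁻¹ * t * q * r = q⁻¹ * t * q * (q⁻¹ * (t * r) * q) := by rw [← hr']
            _ = q⁻¹ * (t * (t * r)) * q := by group
            _ = q⁻¹ * (t * r) * q * (q⁻¹ * t * q) := by rw [htc]; group
            _ = r * (q⁻¹ * t * q) := by rw [← hr']
        have := hrC r hr hr1 h2
        rw [← inv_inv q] at this
        simpa using hfix q⁻¹ (by simpa using this)
      obtain ⟨l, hl, r', hr', e⟩ := hdec q hqK
      have h3 : q * r * q⁻¹ = r' * r * r'⁻¹ := by
        rw [e]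
        calc l * r' * r * (l * r')⁻¹ = l * (r' * r * r'⁻¹) * l⁻¹ := by group
          _ = r' * r * r'⁻¹ := by
            rw [← (hRL _ (mul_mem (mul_mem hr' hr) (inv_mem hr')) l hl).eq, mul_inv_cancel_right]
      have h4 : t ∈ c.R := by
        have : t * r ∈ c.R := by
          rw [← hqr, h3]; exact mul_mem (mul_mem hr' hr) (inv_mem hr')
        have := mul_mem this (inv_mem hr)
        rwa [mul_inv_cancel_right] at this
      have h5 := hinter t h4 htL
      have h6 := h.ord
      rw [h5, orderOf_one] at h6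
      norm_num at h6
    intro d hd
    have hdH : d ∈ H := mem_centralizer_singleton_iff.2 hd
    have hz := Cfsg.Lib.ZStar.zStarHolds H _ hiso ⟨d, hdH⟩
    set O := (oddCore H).map H.subtype with hO
    have hOK : O ≤ K := by
      have hEH : h.EG ≤ H := by
        intro x hx
        obtain ⟨n, rfl⟩ := h.mem_EG.1 hx
        refine mem_centralizer_singleton_iff.2 ?_
        have h1 : Commute (h.psi (EM n)) t := h.psi_comm (EM n)
        exact (h1.mul_right ((c.commW r hr (EM n)).symm)).eq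
      have hEO : h.EG ≤ Subgroup.normalizer (O : Set G) := by
        intro x hx
        refine Subgroup.mem_normalizer_iff.2 fun y => ⟨?_, ?_⟩
        · rintro ⟨z, hz, rfl⟩
          exact ⟨_, (inferInstance : (oddCore H).Normal).conj_mem z hz ⟨x, hEH hx⟩, rfl⟩
        · rintro ⟨z, hz, e⟩
          refine ⟨_, (inferInstance : (oddCore H).Normal).conj_mem z hz ⟨x, hEH hx⟩⁻¹, ?_⟩
          show x⁻¹ * (z : G) * x⁻¹⁻¹ = y
          rw [show (z : G) = x * y * x⁻¹ from e]
          group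
      haveI : IsMulCommutative h.EG := ⟨⟨by
        rintro ⟨a, ha⟩ ⟨b, hb⟩
        obtain ⟨i, rfl⟩ := h.mem_EG.1 ha
        obtain ⟨j, rfl⟩ := h.mem_EG.1 hb
        exact Subtype.ext (h.psi_EM_comm i j)⟩⟩
      have hcop : (Nat.card h.EG).Coprime (Nat.card O) := by
        rw [h.card_EG, hO, ← Nat.card_congr ((oddCore H).equivMapOfInjective _ H.subtype_injective).toEquiv,
          show (8 : ℕ) = 2 ^ 3 by norm_num]
        exact Nat.Coprime.pow_left 3 (Nat.coprime_two_left.2 Cfsg.Lib.ZStar.odd_card_oddCore)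
      refine (Cfsg.Lib.Coprime.le_iSup_centralizer_cocyclic O hEO hcop).trans (iSup₂_le fun B hB => ?_)
      obtain ⟨hBE, a, ha, hsup⟩ := hB
      obtain ⟨b, hb, hb1⟩ : ∃ b ∈ B, b ≠ 1 := by
        refine B.bot_or_exists_ne_one.resolve_left fun hB0 => ?_
        rw [hB0, bot_sup_eq] at hsup
        obtain ⟨n, hn⟩ := h.mem_EG.1 ha
        have h2 : orderOf a ∣ 2 := orderOf_dvd_of_pow_eq_one (by
          rw [← hn, pow_two, ← map_mul, (EM_invol n).1, map_one])
        have h3 := h.card_EG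
        rw [← hsup, Nat.card_zpowers] at h3
        rw [h3] at h2
        norm_num at h2
      obtain ⟨n, rfl⟩ := h.mem_EG.1 (hBE hb)
      have hn0 : n ≠ 0 := fun e => hb1 (by rw [e, EM_vals.2.2.2.2.2, map_one])
      obtain ⟨i, hi⟩ := c.orbit n hn0
      intro y hy
      have hyb : h.psi (EM n) * y = y * h.psi (EM n) :=
        Subgroup.mem_centralizer_iff.1 hy.2 _ hb
      rw [← hi, ← c.spow] at hyb
      have h1 : (c.s ^ i)⁻¹ * y * c.s ^ i ∈ K := hCtK _ (by
        calc (c.s ^ i)⁻¹ * y * c.s ^ i * t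
            = (c.s ^ i)⁻¹ * (y * (c.s ^ i * t * (c.s ^ i)⁻¹)) * c.s ^ i := by group
          _ = _ := by rw [← hyb]; group)
      have hsK : c.s ^ i ∈ K := pow_mem (hCRK hsCR) i
      have := mul_mem (mul_mem hsK h1) (inv_mem hsK)
      convert this using 1
      group
    have h1 : t * d * t⁻¹ * d⁻¹ ∈ K := hOK ⟨_, hz, by simp⟩
    have h2 : d * t * d⁻¹ ∈ K := by
      have htK : t ∈ K := hLK htL
      have := mul_mem (inv_mem htK) h1
      rw [inv_eq_of_mul_eq_one_left htt] at this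
      convert this using 1
      calc d * t * d⁻¹ = (t * t) * (d * t * d⁻¹) := by rw [htt, one_mul]
        _ = _ := by group
    exact hfix d h2
  have hinvK : ∀ l ∈ L, ∀ r ∈ c.R, r * r = 1 → r ≠ 1 → (l = 1 ∨ l * l = 1) →
      ∀ d, d * (l * r) = l * r * d → d ∈ K := by
    intro l hl r hr hrr hr1 hll d hd
    by_cases hl1 : l = 1
    · subst hl1
      simp only [one_mul] at hd
      exact hrC r hr hr1 (mem_centralizer_singleton_iff.2 hd)
    · obtain ⟨k, hk, rfl⟩ := hLinv l hl (hll.resolve_left hl1) hl1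
      have hkr : k⁻¹ * r = r * k⁻¹ := ((hRL r hr k hk).symm.inv_left).eq
      have he : k * t * k⁻¹ * r = k * (t * r) * k⁻¹ := by
        calc k * t * k⁻¹ * r = k * t * (k⁻¹ * r) := by group
          _ = _ := by rw [hkr]; group
      rw [he] at hd
      have := htr r hr hrr hr1 (k⁻¹ * d * k) (by
        calc k⁻¹ * d * k * (t * r) = k⁻¹ * (d * (k * (t * r) * k⁻¹)) * k := by group
          _ = _ := by rw [hd]; group)
      have h2 := mul_mem (mul_mem (hLK hk) this) (inv_mem (hLK hk))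
      convert h2 using 1
      group
  -- a coset with many conjugates of `t`
  let T := {x : G // ∃ g, g * t * g⁻¹ = x}
  let base : G ⧸ K := QuotientGroup.mk 1
  have hTK : 1463 ≤ Nat.card {x : T // QuotientGroup.mk x.1 = base} := by
    have hidx : (Subgroup.centralizer ({tL} : Set L)).index = 1463 := by
      have h1 := (Subgroup.centralizer ({tL} : Set L)).card_mul_index
      rw [Nat.card_congr eL.toEquiv, Nat.card_eq_fintype_card, Model.card_M.1, card_of_isoJ1 hLJ] at h1
      omega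
    rw [← hidx]
    show Nat.card (L ⧸ Subgroup.centralizer ({tL} : Set L)) ≤ _
    let F : L → {x : T // QuotientGroup.mk x.1 = base} := fun l =>
      ⟨⟨(l : G) * t * (l : G)⁻¹, (l : G), rfl⟩, (QuotientGroup.eq.2 (by
        rw [mul_one]; exact inv_mem (hLK (mul_mem (mul_mem l.2 htL) (inv_mem l.2)))))⟩
    refine Nat.card_le_card_of_injective (fun q => F q.out) fun a b e => ?_
    have e' : (a.out : G) * t * (a.out : G)⁻¹ = (b.out : G) * t * (b.out : G)⁻¹ :=
      congrArg (fun z : {x : T // QuotientGroup.mk x.1 = base} => z.1.1) e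
    rw [← QuotientGroup.out_eq' a, ← QuotientGroup.out_eq' b, QuotientGroup.eq]
    refine mem_centralizer_singleton_iff.2 (Subtype.ext ?_)
    show (a.out : G)⁻¹ * b.out * t = t * ((a.out : G)⁻¹ * b.out)
    calc (a.out : G)⁻¹ * b.out * t = (a.out : G)⁻¹ * ((b.out : G) * t * (b.out : G)⁻¹) * b.out := by group
      _ = _ := by rw [← e']; group
  -- the number of conjugates is the index times the number in `K`
  have hcount : Nat.card T = K.index * Nat.card {x : T // QuotientGroup.mk x.1 = base} := by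
    set C := Subgroup.centralizer ({t} : Set G)
    have hC : C ≤ K := fun d hd => hCtK d (mem_centralizer_singleton_iff.1 hd)
    have hwell : ∀ a b : G, a⁻¹ * b ∈ C → a * t * a⁻¹ = b * t * b⁻¹ := fun a b hab => by
      have := mem_centralizer_singleton_iff.1 hab
      calc a * t * a⁻¹ = a * (t * (a⁻¹ * b)) * b⁻¹ := by group
        _ = b * t * b⁻¹ := by rw [← this]; group
    have hinj : ∀ a b : G, a * t * a⁻¹ = b * t * b⁻¹ → a⁻¹ * b ∈ C := fun a b e => by
      refine mem_centralizer_singleton_iff.2 ?_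
      calc a⁻¹ * b * t = a⁻¹ * (b * t * b⁻¹) * b := by group
        _ = _ := by rw [← e]; group
    have hT : Nat.card T = C.index := by
      refine (Nat.card_congr (Equiv.ofBijective
        (fun q : G ⧸ C => (⟨q.out * t * q.out⁻¹, q.out, rfl⟩ : T)) ⟨fun a b e => ?_, ?_⟩)).symm
      · rw [← QuotientGroup.out_eq' a, ← QuotientGroup.out_eq' b, QuotientGroup.eq]
        exact hinj _ _ (congrArg Subtype.val e :)
      · rintro ⟨_, g, rfl⟩
        exact ⟨QuotientGroup.mk g, Subtype.ext (hwell _ _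
          (QuotientGroup.eq.1 (QuotientGroup.out_eq' _)))⟩
    have hT0 : Nat.card {x : T // QuotientGroup.mk x.1 = base} = (C.subgroupOf K).index := by
      refine (Nat.card_congr (Equiv.ofBijective
        (fun q : K ⧸ C.subgroupOf K => (⟨⟨(q.out : G) * t * (q.out : G)⁻¹, (q.out : G), rfl⟩,
          (QuotientGroup.eq.2 (by
            rw [mul_one]; exact inv_mem (mul_mem (mul_mem q.out.2 (hLK htL)) (inv_mem q.out.2))))⟩ :
          {x : T // QuotientGroup.mk x.1 = base})) ⟨fun a b e => ?_, ?_⟩)).symm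
      · rw [← QuotientGroup.out_eq' a, ← QuotientGroup.out_eq' b, QuotientGroup.eq, mem_subgroupOf]
        exact hinj _ _ (congrArg (fun z : {x : T // QuotientGroup.mk x.1 = base} => z.1.1) e :)
      · rintro ⟨⟨_, g, rfl⟩, hx⟩
        have hgK : g * t * g⁻¹ ∈ K := by
          have := QuotientGroup.eq.1 hx
          rw [mul_one] at this
          simpa using inv_mem this
        refine ⟨QuotientGroup.mk ⟨g, hfix g hgK⟩, Subtype.ext (Subtype.ext (hwell _ _ ?_))⟩
        exact mem_subgroupOf.1 (QuotientGroup.eq.1 (QuotientGroup.out_eq'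
          (QuotientGroup.mk (⟨g, hfix g hgK⟩ : K) : K ⧸ C.subgroupOf K)))
    rw [hT, hT0, mul_comm]
    exact (Subgroup.relIndex_mul_index hC).symm
  obtain ⟨q, hq, hqcard⟩ : ∃ q : G ⧸ K, q ≠ base ∧
      1463 ≤ Nat.card {x : T // QuotientGroup.mk x.1 = q} := by
    haveI := Fintype.ofFinite (G ⧸ K)
    haveI : Fintype T := Fintype.ofFinite T
    by_contra hcon
    push Not at hcon
    have hne : 1 < Fintype.card (G ⧸ K) := by
      rw [← Nat.card_eq_fintype_card]
      show 1 < K.index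
      have h0 : K.index ≠ 0 := Subgroup.index_ne_zero_of_finite
      have h1 : K.index ≠ 1 := fun e => hK (Subgroup.index_eq_one.1 e)
      omega
    have hsum : Nat.card T = ∑ q : G ⧸ K, Nat.card {x : T // QuotientGroup.mk x.1 = q} := by
      rw [← Nat.card_sigma]
      exact (Nat.card_congr (Equiv.sigmaFiberEquiv fun x : T => (QuotientGroup.mk x.1 : G ⧸ K))).symm
    obtain ⟨q₁, hq₁⟩ : ∃ q₁ : G ⧸ K, q₁ ≠ base := Fintype.exists_ne_of_one_lt_card hne base
    have hlt : ∑ q : G ⧸ K, Nat.card {x : T // QuotientGroup.mk x.1 = q} <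
        ∑ _q : G ⧸ K, Nat.card {x : T // QuotientGroup.mk x.1 = base} := by
      refine Finset.sum_lt_sum (fun q _ => ?_) ⟨q₁, Finset.mem_univ _, (hcon q₁ hq₁).trans_le hTK⟩
      by_cases hq : q = base
      · rw [hq]
      · exact le_of_lt ((hcon q hq).trans_le hTK)
    rw [← hsum, hcount, Finset.sum_const, Finset.card_univ, smul_eq_mul, ← Nat.card_eq_fintype_card] at hlt
    exact lt_irrefl _ hlt
  obtain ⟨⟨⟨u₀, g₀, hg₀⟩, hu₀⟩⟩ : Nonempty {x : T // QuotientGroup.mk x.1 = q} :=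
    (Nat.card_pos_iff.1 (by omega)).1
  have hu₀2 : u₀ * u₀ = 1 := by
    rw [← hg₀]
    calc g₀ * t * g₀⁻¹ * (g₀ * t * g₀⁻¹) = g₀ * (t * t) * g₀⁻¹ := by group
      _ = 1 := by rw [htt]; group
  have hu₀K : u₀ ∉ K := fun hu => hq (by
    rw [← hu₀]; exact QuotientGroup.eq.2 (by rw [mul_one]; exact inv_mem hu))
  set D := K ⊓ K.comap (MulAut.conj u₀).toMonoidHom with hD
  have hu₀inv : u₀⁻¹ = u₀ := inv_eq_of_mul_eq_one_right hu₀2
  have hmemD : ∀ k, k ∈ D ↔ k ∈ K ∧ u₀ * k * u₀⁻¹ ∈ K := fun k => Iff.rfl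
  have hnoconj : ∀ g : G, g * t * g⁻¹ ∈ D → False := by
    intro g hg
    obtain ⟨hg1, hg2⟩ := (hmemD _).1 hg
    have h1 := hfix g hg1
    have h2 := hfix (u₀ * g) (by convert hg2 using 1; group)
    exact hu₀K (by
      have := mul_mem h2 (inv_mem h1)
      rwa [mul_inv_cancel_right] at this)
  have hDcard : 1463 ≤ Nat.card D := by
    refine hqcard.trans (Nat.card_le_card_of_injective
      (fun y => (⟨u₀⁻¹ * y.1.1, ?_⟩ : D)) fun a b e => ?_)
    · have hyK : u₀⁻¹ * y.1.1 ∈ K := QuotientGroup.eq.1 (hu₀.trans y.2.symm)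
      refine (hmemD _).2 ⟨hyK, ?_⟩
      obtain ⟨g, hg⟩ := y.1.2
      have hyy : y.1.1 * y.1.1 = 1 := by
        rw [← hg]
        calc g * t * g⁻¹ * (g * t * g⁻¹) = g * (t * t) * g⁻¹ := by group
          _ = 1 := by rw [htt]; group
      have := inv_mem hyK
      convert this using 1
      rw [mul_inv_rev, inv_inv, inv_eq_of_mul_eq_one_right hyy, hu₀inv, ← mul_assoc u₀ u₀ y.1.1,
        hu₀2, one_mul]
    · exact Subtype.ext (Subtype.ext (mul_left_cancel (congrArg Subtype.val e)))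
  -- `D` has odd order
  have hDodd : Odd (Nat.card D) := by
    rw [← Nat.not_even_iff_odd, even_iff_two_dvd]
    intro h2
    obtain ⟨⟨z, hz⟩, hzo⟩ := exists_prime_orderOf_dvd_card' (G := D) 2 h2
    rw [Subgroup.orderOf_mk] at hzo
    have hzz := Cfsg.Lib.Invol.inv_mul_self hzo
    obtain ⟨hzK, hz'⟩ := (hmemD z).1 hz
    obtain ⟨l, hl, r, hr, rfl⟩ := hdec z hzK
    have hsq : l * l * (r * r) = 1 := by
      rw [← hzz]
      calc l * l * (r * r) = l * (l * r) * r := by group
        _ = l * (r * l) * r := by rw [(hRL r hr l hl).eq]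
        _ = _ := by group
    have hrr : r * r = 1 := hinter _ (mul_mem hr hr) (by
      rw [← inv_eq_of_mul_eq_one_right hsq]; exact inv_mem (mul_mem hl hl))
    have hll : l * l = 1 := by rwa [hrr, mul_one] at hsq
    have hr1 : r ≠ 1 := by
      rintro rfl
      rw [mul_one] at hz hzo
      obtain ⟨k, -, rfl⟩ := hLinv l hl hll (fun e => by rw [e, orderOf_one] at hzo; norm_num at hzo)
      exact hnoconj k hz
    obtain ⟨l', hl', r', hr', e'⟩ := hdec _ hz'
    obtain ⟨g, hgL, hgc⟩ : ∃ g : G, g * t * g⁻¹ ∈ L ∧ Commute (g * t * g⁻¹) (l' * r') := by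
      by_cases hl1 : l' = 1
      · refine ⟨1, by simpa using htL, ?_⟩
        rw [hl1, one_mul, one_mul, inv_one, mul_one]
        exact (hRL r' hr' t htL).symm
      · have hzz' : (l' * r') * (l' * r') = 1 := by
          rw [← e']
          calc u₀ * (l * r) * u₀⁻¹ * (u₀ * (l * r) * u₀⁻¹) = u₀ * ((l * r) * (l * r)) * u₀⁻¹ := by group
            _ = 1 := by rw [hzz]; group
        have hsq' : l' * l' * (r' * r') = 1 := by
          rw [← hzz']
          calc l' * l' * (r' * r') = l' * (l' * r') * r' := by group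
            _ = l' * (r' * l') * r' := by rw [(hRL r' hr' l' hl').eq]
            _ = _ := by group
        have hrr' : r' * r' = 1 := hinter _ (mul_mem hr' hr') (by
          rw [← inv_eq_of_mul_eq_one_right hsq']; exact inv_mem (mul_mem hl' hl'))
        have hll' : l' * l' = 1 := by rwa [hrr', mul_one] at hsq'
        obtain ⟨k, hk, e⟩ := hLinv l' hl' hll' hl1
        refine ⟨k, by rw [e]; exact hl', ?_⟩
        rw [e]
        exact (Commute.refl l').mul_right (hRL r' hr' l' hl').symm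
    refine hnoconj g ((hmemD _).2 ⟨hLK hgL, hinvK l hl r hr hrr hr1 (Or.inr hll) _ ?_⟩)
    have h1 := hgc.eq
    rw [← e'] at h1
    calc u₀ * (g * t * g⁻¹) * u₀⁻¹ * (l * r)
        = u₀ * (g * t * g⁻¹ * (u₀⁻¹ * (l * r) * u₀)) * u₀⁻¹ := by group
      _ = u₀ * (u₀⁻¹ * (l * r) * u₀ * (g * t * g⁻¹)) * u₀⁻¹ := by
        rw [hu₀inv] at h1 ⊢; rw [h1]
      _ = l * r * (u₀ * (g * t * g⁻¹) * u₀⁻¹) := by group
  -- the projection of `D` to `L`
  choose pl hpl pr hpr hpe using hdec
  have huniq : ∀ l ∈ L, ∀ r ∈ c.R, ∀ l' ∈ L, ∀ r' ∈ c.R, l * r = l' * r' → l = l' ∧ r = r' := by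
    intro l hl r hr l' hl' r' hr' e
    have h1 : l'⁻¹ * l = r' * r⁻¹ := by
      calc l'⁻¹ * l = l'⁻¹ * (l * r) * r⁻¹ := by group
        _ = r' * r⁻¹ := by rw [e]; group
    have h2 := hinter _ (mul_mem hr' (inv_mem hr)) (by rw [← h1]; exact mul_mem (inv_mem hl') hl)
    have h3 : r = r' := (mul_inv_eq_one.1 h2).symm
    exact ⟨by rw [h3] at e; exact mul_right_cancel e, h3⟩
  let P : K →* L := MonoidHom.mk' (fun k => ⟨pl k k.2, hpl k k.2⟩) fun a b => by
    refine Subtype.ext (huniq _ (hpl _ (a * b).2) _ (hpr _ (a * b).2) _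
      (mul_mem (hpl _ a.2) (hpl _ b.2)) _ (mul_mem (hpr a a.2) (hpr b b.2)) ?_).1
    rw [← hpe]
    show (a : G) * b = _
    calc (a : G) * b = (pl a a.2 * pr a a.2) * (pl b b.2 * pr b b.2) := by rw [← hpe, ← hpe]
      _ = pl a a.2 * (pr a a.2 * pl b b.2) * pr b b.2 := by group
      _ = _ := by rw [(hRL _ (hpr a a.2) _ (hpl b b.2)).eq]; group
  have hP1 : ∀ k : K, P k = 1 → (k : G) ∈ c.R := fun k e => by
    have e' : pl k k.2 = 1 := congrArg Subtype.val e
    rw [hpe k k.2, e', one_mul]; exact hpr _ _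
  let incl : D →* K := Subgroup.inclusion inf_le_left
  set π := P.comp incl with hπ
  have hLcard := card_of_isoJ1 hLJ
  have hrange : Nat.card π.range ≤ 57 := (odd_subgroup (Y := π.range)
    (hDodd.of_dvd_nat (Subgroup.card_range_dvd π)) (hLcard ▸ card_subgroup_dvd_card _)
    fun y => by rw [← Subgroup.orderOf_coe]; exact orderOf_mem_spec hLJ _).1
  let tw : π.ker →* L := P.comp
    { toFun := fun y => (⟨u₀ * ((y : D) : G) * u₀⁻¹, ((hmemD _).1 (y : D).2).2⟩ : K)
      map_one' := Subtype.ext (by simp)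
      map_mul' := fun a b => Subtype.ext (by simp [mul_assoc]) }
  have hyR : ∀ y : π.ker, ((y : D) : G) ∈ c.R := fun y => hP1 _ (MonoidHom.mem_ker.1 y.2)
  have htwinj : Function.Injective tw := by
    rw [injective_iff_map_eq_one]
    intro y e
    by_contra hne
    have h1 : u₀ * ((y : D) : G) * u₀⁻¹ ∈ c.R := hP1 _ e
    have hy1 : ((y : D) : G) ≠ 1 := fun e' => hne (Subtype.ext (Subtype.ext e'))
    refine hnoconj 1 ((hmemD _).2 ⟨by simpa using hLK htL, hrC _ (hyR y) hy1
      (mem_centralizer_singleton_iff.2 ?_)⟩)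
    have h3 := (hRL _ h1 t htL).eq
    rw [one_mul, inv_one, mul_one]
    calc u₀ * t * u₀⁻¹ * ((y : D) : G) = u₀ * (t * (u₀⁻¹ * ((y : D) : G) * u₀)) * u₀⁻¹ := by group
      _ = ((y : D) : G) * (u₀ * t * u₀⁻¹) := by
        rw [hu₀inv] at h3 ⊢
        rw [← h3]
        calc u₀ * (u₀ * ((y : D) : G) * u₀ * t) * u₀
            = (u₀ * u₀) * ((y : D) : G) * (u₀ * t * u₀) := by group
          _ = _ := by rw [hu₀2, one_mul]
  have hker : Nat.card π.ker ≤ 19 := by
    rw [Nat.card_congr (MonoidHom.ofInjective htwinj).toEquiv]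
    have hodd : Odd (Nat.card tw.range) :=
      hDodd.of_dvd_nat ((Subgroup.card_range_dvd tw).trans (card_subgroup_dvd_card _))
    refine small_subgroup hodd (hLcard ▸ card_subgroup_dvd_card _) ?_
    rintro ⟨_, ⟨y, rfl⟩⟩
    have hno : ∀ p, (p = 3 ∨ p = 5) → ¬ p ∣ orderOf (tw y) := by
      intro p hp hpd
      set y' := y ^ (orderOf (tw y) / p) with hy'
      have ho : orderOf (tw y') = p := by
        rw [hy', map_pow]; exact orderOf_pow_orderOf_div (orderOf_pos _).ne' hpd
      obtain ⟨z, hz2, hzc⟩ := exists_invol_commute hLJ hp ho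
      have hy1 : ((y' : D) : G) ≠ 1 := by
        intro e
        rw [show y' = 1 from Subtype.ext (Subtype.ext e), map_one, orderOf_one] at ho
        rcases hp with rfl | rfl <;> omega
      obtain ⟨k, hkL, hk⟩ := hLinv z z.2 (by
        have := congrArg Subtype.val (Cfsg.Lib.Invol.inv_mul_self hz2); simpa using this) (fun e => by
          rw [show z = 1 from Subtype.ext e, orderOf_one] at hz2; norm_num at hz2)
      refine hnoconj k ((hmemD _).2 ⟨by rw [hk]; exact hLK z.2,
        hrC _ (hyR y') hy1 (mem_centralizer_singleton_iff.2 ?_)⟩)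
      rw [hk]
      set a := u₀ * ((y' : D) : G) * u₀⁻¹ with ha
      have haK : a ∈ K := ((hmemD _).1 (y' : D).2).2
      have hzl : Commute (z : G) (pl a haK) := (congrArg Subtype.val hzc.eq).symm
      have hza : Commute (z : G) a := by
        rw [hpe a haK]
        exact hzl.mul_right (hRL _ (hpr a haK) _ z.2).symm
      calc u₀ * (z : G) * u₀⁻¹ * ((y' : D) : G)
          = u₀ * ((z : G) * (u₀⁻¹ * ((y' : D) : G) * u₀)) * u₀⁻¹ := by group
        _ = u₀ * ((z : G) * a) * u₀⁻¹ := by rw [ha, hu₀inv]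
        _ = u₀ * (a * (z : G)) * u₀⁻¹ := by rw [hza.eq]
        _ = (u₀ * u₀) * ((y' : D) : G) * (u₀⁻¹ * (z : G) * u₀⁻¹) := by rw [ha]; group
        _ = _ := by rw [hu₀2, one_mul, hu₀inv]
    rw [show orderOf (⟨tw y, y, rfl⟩ : tw.range) = orderOf (tw y) from (Subgroup.orderOf_coe _).symm]
    refine odd_spec _ (orderOf_mem_spec hLJ _) ?_ (hno 3 (Or.inl rfl)) (hno 5 (Or.inr rfl))
    intro h2
    have h3 := hodd.of_dvd_nat (orderOf_dvd_natCard (⟨tw y, y, rfl⟩ : tw.range))
    rw [show orderOf (⟨tw y, y, rfl⟩ : tw.range) = orderOf (tw y) from (Subgroup.orderOf_coe _).symm] at h3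
    exact (Nat.not_even_iff_odd.2 h3) (even_iff_two_dvd.2 h2)
  have htot := π.ker.card_mul_index
  rw [index_ker] at htot
  have := Nat.mul_le_mul hker hrange
  omega

end Cfsg.Lib.J1Weak
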