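import Cfsg.Agent.Lib.J1Weak.Small
import Cfsg.Agent.Lib.J1Weak.Central
import Cfsg.Agent.Lib.J1Weak.Large

/-!
# The characterisation by the weak closure
-/

set_option autoImplicit false
set_option linter.style.haveILetI false

namespace Cfsg.Lib.J1Weak

open Subgroup Cfsg

universe u

theorem isoJ1_normalClosure : ∀ (n : ℕ) (G : Type u) [Group G] [Finite G], Nat.card G = n →
    ∀ (t : G), Hyp t → Spor.IsoJ1 ↥(Subgroup.normalClosure ({t} : Set G)) := by
  intro n
  induction n using Nat.strong_induction_on with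
  | _ n IH =>
    intro G _ _ hn t h
    have ih : ∀ (G' : Type u) [Group G'] [Finite G'], Nat.card G' < Nat.card G → ∀ (t' : G'), Hyp t' →
        Spor.IsoJ1 ↥(Subgroup.normalClosure ({t'} : Set G')) :=
      fun G' _ _ hlt t' h' => IH _ (hn ▸ hlt) G' rfl t' h'
    obtain ⟨c⟩ := h.exists_core
    by_cases hR : c.R = ⊥
    · exact c.small hR
    by_cases hc : ∀ r : G, (∀ g, g * r = r * g) → r = 1
    · exact c.large hR hc ih
    push Not at hc
    obtain ⟨r, hr, hr1⟩ := hc
    obtain ⟨p, hp, hpd⟩ := Nat.exists_prime_and_dvd (show orderOf r ≠ 1 from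
      fun e => hr1 (orderOf_eq_one_iff.1 e))
    refine c.of_central (r := r ^ (orderOf r / p))
      (fun g => ((show Commute g r from hr g).pow_right _).eq) ?_ ih
    rw [orderOf_pow_orderOf_div (orderOf_pos r).ne' hpd]
    exact hp

end Cfsg.Lib.J1Weak
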