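import Cfsg.Agent.Lib.J1Weak.Finite
import Cfsg.Agent.Lib.J1Unique.Tuple

/-!
# An involution with weak closure `2 × A₅` in its centralizer: the Sylow normalizer
-/

set_option autoImplicit false
set_option linter.style.haveILetI false
set_option linter.unusedSectionVars false

namespace Cfsg.Lib.J1Weak

open Subgroup Cfsg Cfsg.Lib.J1Order Cfsg.Lib.J1Unique

variable {G : Type*} [Group G]

/-- The weak closure of `t` in its centralizer. -/
abbrev WC (t : G) : Subgroup G :=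
  Subgroup.closure {x : G | ∃ g : G, x = g * t * g⁻¹ ∧ x * t = t * x}

/-- The hypothesis: a 2-central involution whose weak closure is `2 × A₅`. -/
structure Hyp (t : G) where
  ord : orderOf t = 2
  central : ∃ S : Sylow 2 G, (S : Subgroup G) ≤ Subgroup.centralizer ({t} : Set G)
  e : WC t ≃* Model.M

namespace Hyp

variable {t : G} (h : Hyp t)

/-- The embedding of the model. -/
noncomputable def psi : Model.M →* G := (WC t).subtype.comp h.e.symm.toMonoidHom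

theorem psi_inj : Function.Injective h.psi := fun _ _ e => h.e.symm.injective (Subtype.ext e)

theorem psi_mem (m : Model.M) : h.psi m ∈ WC t := (h.e.symm m).2

theorem exists_psi {x : G} (hx : x ∈ WC t) : ∃ m, h.psi m = x := ⟨h.e ⟨x, hx⟩, by simp [psi]⟩

theorem range_psi : h.psi.range = WC t :=
  le_antisymm (by rintro _ ⟨m, rfl⟩; exact h.psi_mem m) fun x hx => h.exists_psi hx

include h

theorem conj_mem {g : G} (hg : g * t * g⁻¹ * t = t * (g * t * g⁻¹)) : g * t * g⁻¹ ∈ WC t :=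
  Subgroup.subset_closure ⟨g, rfl, hg⟩

theorem WC_le : WC t ≤ Subgroup.centralizer ({t} : Set G) := by
  rw [WC, Subgroup.closure_le]
  rintro x ⟨g, -, hg⟩
  exact mem_centralizer_singleton_iff.2 hg

theorem conj_WC {d : G} (hd : d * t = t * d) {x : G} (hx : x ∈ WC t) : d * x * d⁻¹ ∈ WC t := by
  have : (WC t).map (MulAut.conj d).toMonoidHom ≤ WC t := by
    rw [WC, MonoidHom.map_closure, Subgroup.closure_le]
    rintro _ ⟨y, ⟨g, rfl, hg⟩, rfl⟩
    refine Subgroup.subset_closure ⟨d * g, ?_, ?_⟩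
    · show d * (g * t * g⁻¹) * d⁻¹ = _
      group
    · show d * (g * t * g⁻¹) * d⁻¹ * t = t * (d * (g * t * g⁻¹) * d⁻¹)
      have hd' : d⁻¹ * t = t * d⁻¹ := (Commute.inv_left (show Commute d t from hd)).eq
      calc d * (g * t * g⁻¹) * d⁻¹ * t = d * (g * t * g⁻¹) * (d⁻¹ * t) := by group
        _ = d * (g * t * g⁻¹ * t) * d⁻¹ := by rw [hd']; group
        _ = d * (t * (g * t * g⁻¹)) * d⁻¹ := by rw [hg]
        _ = (d * t) * (g * t * g⁻¹) * d⁻¹ := by group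
        _ = t * (d * (g * t * g⁻¹) * d⁻¹) := by rw [hd]; group
  exact this ⟨x, hx, rfl⟩

theorem t_mem : t ∈ WC t := by simpa using h.conj_mem (g := 1) (by simp)

theorem psi_tM : h.psi Model.tM = t := by
  have he : h.e ⟨t, h.t_mem⟩ = Model.tM := by
    rcases Model.center_cases (h.e ⟨t, h.t_mem⟩) (fun n => by
      obtain ⟨x, rfl⟩ := h.e.surjective n
      rw [← map_mul, ← map_mul]
      congr 1
      exact Subtype.ext (mem_centralizer_singleton_iff.1 (h.WC_le x.2)).symm) with e | e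
    · have h1 : t = 1 := congrArg Subtype.val (h.e.map_eq_one_iff.1 e)
      have := h.ord
      rw [h1, orderOf_one] at this
      norm_num at this
    · exact e
  show ((h.e.symm Model.tM : WC t) : G) = t
  rw [← he, h.e.symm_apply_apply]

theorem psi_comm (m : Model.M) : h.psi m * t = t * h.psi m :=
  mem_centralizer_singleton_iff.1 (h.WC_le (h.psi_mem m))

theorem psi_four : h.psi (EM 4) = t := by rw [EM_vals.1, h.psi_tM]

theorem psi_EM_comm (a b : Fin 8) : h.psi (EM a) * h.psi (EM b) = h.psi (EM b) * h.psi (EM a) := by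
  rw [← map_mul, ← map_mul, EM_mul, EM_mul, (xor_surj a b).2]

/-- The image of the Sylow 2-subgroup of the model. -/
noncomputable def EG : Subgroup G := EMsub.map h.psi

theorem mem_EG {x : G} : x ∈ h.EG ↔ ∃ n, h.psi (EM n) = x := by
  constructor
  · rintro ⟨_, ⟨n, rfl⟩, rfl⟩; exact ⟨n, rfl⟩
  · rintro ⟨n, rfl⟩; exact ⟨_, ⟨n, rfl⟩, rfl⟩

theorem card_EG : Nat.card h.EG = 8 := by
  rw [EG, ← Nat.card_congr (EMsub.equivMapOfInjective _ h.psi_inj).toEquiv, card_EMsub]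

theorem EG_le_WC : h.EG ≤ WC t := by
  rintro _ ⟨m, -, rfl⟩; exact h.psi_mem m

/-- The nontrivial elements of the Sylow subgroup conjugate to `t`. -/
noncomputable def orb : Finset (Fin 8) := by
  classical exact Finset.univ.filter fun n => ∃ g : G, g * t * g⁻¹ = h.psi (EM n)

theorem mem_orb {n : Fin 8} : n ∈ h.orb ↔ ∃ g : G, g * t * g⁻¹ = h.psi (EM n) := by
  simp [orb]

theorem orb_facts : 4 ∈ h.orb ∧ 0 ∉ h.orb ∧ (∀ n ∈ h.orb, XP n ∈ h.orb) ∧ ∃ n ∈ h.orb, n ≠ 4 := by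
  refine ⟨h.mem_orb.2 ⟨1, by simp [h.psi_four]⟩, fun h0 => ?_, fun n hn => ?_, ?_⟩
  · obtain ⟨g, hg⟩ := h.mem_orb.1 h0
    rw [EM_vals.2.2.2.2.2, map_one, conj_eq_one_iff] at hg
    have := h.ord
    rw [hg, orderOf_one] at this
    norm_num at this
  · obtain ⟨g, hg⟩ := h.mem_orb.1 hn
    refine h.mem_orb.2 ⟨h.psi xM * g, ?_⟩
    rw [← EM_XP, map_mul, map_mul, map_inv, ← hg]
    group
  · by_contra hcon
    push Not at hcon
    have hle : WC t ≤ zpowers t := by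
      rw [WC, Subgroup.closure_le]
      rintro x ⟨g, hgx, hg⟩
      have hx : x ∈ WC t := Subgroup.subset_closure ⟨g, hgx, hg⟩
      obtain ⟨m, hm⟩ := h.exists_psi hx
      have hx2 : orderOf x = 2 := by rw [hgx, Cfsg.Lib.Invol.orderOf_conj_eq, h.ord]
      have hm2 : m * m = 1 ∧ m ≠ 1 := by
        refine ⟨h.psi_inj ?_, fun e => ?_⟩
        · rw [map_mul, hm, map_one, Cfsg.Lib.Invol.inv_mul_self hx2]
        · rw [e, map_one] at hm
          rw [← hm, orderOf_one] at hx2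
          norm_num at hx2
      obtain ⟨n, hn0, c, hc⟩ := invol_EM m hm2
      have hn : n ∈ h.orb := h.mem_orb.2 ⟨(h.psi c)⁻¹ * g, by
        calc (h.psi c)⁻¹ * g * t * ((h.psi c)⁻¹ * g)⁻¹ = (h.psi c)⁻¹ * x * h.psi c := by
              rw [hgx]; group
          _ = h.psi (EM n) := by rw [← hm, ← hc, map_mul, map_mul, map_inv]; group⟩
      have h4 := hcon n hn
      subst h4
      rw [EM_vals.1, Model.tM_central c, mul_assoc] at hc
      rw [← hm, ← hc, map_mul, h.psi_tM]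
      simp
    have hd := card_dvd_of_le hle
    rw [Nat.card_zpowers, h.ord, Nat.card_congr h.e.toEquiv, Nat.card_eq_fintype_card,
      Model.card_M.1] at hd
    norm_num at hd

variable [Finite G]

theorem exists_sylow : ∃ S : Sylow 2 G,
    (S : Subgroup G) ≤ Subgroup.centralizer ({t} : Set G) ∧ h.EG ≤ S := by
  haveI : Fact (Nat.Prime 2) := ⟨Nat.prime_two⟩
  obtain ⟨S₀, hS₀⟩ := h.central
  set C := Subgroup.centralizer ({t} : Set G)
  have hEC : h.EG ≤ C := h.EG_le_WC.trans h.WC_le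
  have hp : IsPGroup 2 (h.EG.subgroupOf C) := IsPGroup.of_card (n := 3) (by
    rw [Nat.card_congr (subgroupOfEquivOfLe hEC).toEquiv, h.card_EG]; norm_num)
  obtain ⟨Q, hQ⟩ := hp.exists_le_sylow
  obtain ⟨k, hk⟩ := MulAction.exists_smul_eq C (S₀.subtype hS₀) Q
  refine ⟨(k : G) • S₀, ?_, ?_⟩
  · intro x hx
    obtain ⟨y, hy, rfl⟩ := hx
    exact mul_mem (mul_mem k.2 (hS₀ hy)) (inv_mem k.2)
  · intro x hx
    have hxQ : (⟨x, hEC hx⟩ : C) ∈ (Q : Subgroup C) := hQ hx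
    rw [← hk] at hxQ
    obtain ⟨y, hy, hyx⟩ := hxQ
    exact ⟨(y : G), hy, congrArg Subtype.val hyx⟩

variable {S : Sylow 2 G} (hS : (S : Subgroup G) ≤ Subgroup.centralizer ({t} : Set G) ∧ h.EG ≤ S)

include hS

theorem inf_eq : (S : Subgroup G) ⊓ WC t = h.EG := by
  haveI : Fact (Nat.Prime 2) := ⟨Nat.prime_two⟩
  refine (eq_of_le_of_card_ge (le_inf hS.2 h.EG_le_WC) ?_).symm
  obtain ⟨k, hk⟩ := IsPGroup.iff_card.1 (S.2.to_le (inf_le_left (b := WC t)))
  have hd := card_dvd_of_le (inf_le_right (a := (S : Subgroup G)) (b := WC t))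
  rw [hk, Nat.card_congr h.e.toEquiv, Nat.card_eq_fintype_card, Model.card_M.1] at hd
  rw [hk, h.card_EG]
  have hk3 : k ≤ 3 := by
    by_contra hk4
    have := (pow_dvd_pow 2 (show 4 ≤ k by omega)).trans hd
    norm_num at this
  calc 2 ^ k ≤ 2 ^ 3 := Nat.pow_le_pow_right (by norm_num) hk3
    _ = 8 := by norm_num

theorem mem_EG_of_conj {g : G} (hx : g * t * g⁻¹ ∈ (S : Subgroup G)) : g * t * g⁻¹ ∈ h.EG := by
  rw [← h.inf_eq hS]
  exact ⟨hx, h.conj_mem (mem_centralizer_singleton_iff.1 (hS.1 hx))⟩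

theorem map_EG_of_le {c : G} (hc : ∀ n, c * h.psi (EM n) * c⁻¹ ∈ (S : Subgroup G)) :
    c ∈ Subgroup.normalizer (h.EG : Set G) := by
  have horb : ∀ n, n ∈ h.orb → c * h.psi (EM n) * c⁻¹ ∈ h.EG := by
    intro n hn
    obtain ⟨g, hg⟩ := h.mem_orb.1 hn
    have e : c * h.psi (EM n) * c⁻¹ = (c * g) * t * (c * g)⁻¹ := by rw [← hg]; group
    have := hc n
    rw [e] at this ⊢
    exact h.mem_EG_of_conj hS this
  have hall : ∀ n, c * h.psi (EM n) * c⁻¹ ∈ h.EG := by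
    intro n
    obtain ⟨a, b, d, ha, hb, hd, rfl⟩ := (orbit_cases _ h.orb_facts).2 n
    have h0 : ∀ a : Fin 8, (a ∈ h.orb ∨ a = 0) → c * h.psi (EM a) * c⁻¹ ∈ h.EG := by
      rintro a (ha | rfl)
      · exact horb a ha
      · simp [EM_vals.2.2.2.2.2]
    rw [← EM_mul, ← EM_mul, map_mul, map_mul]
    have := mul_mem (mul_mem (h0 a ha) (h0 b hb)) (h0 d hd)
    convert this using 1
    group
  have heq : h.EG.map (MulAut.conj c).toMonoidHom = h.EG := by
    refine eq_of_le_of_card_ge ?_ (le_of_eq ?_)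
    · rintro _ ⟨x, hx, rfl⟩
      obtain ⟨n, rfl⟩ := h.mem_EG.1 hx
      exact hall n
    · exact Nat.card_congr (h.EG.equivMapOfInjective _ (MulAut.conj c).injective).toEquiv
  refine Subgroup.mem_normalizer_iff.2 fun x => ⟨fun hx => ?_, fun hx => ?_⟩
  · rw [← heq]; exact ⟨x, hx, rfl⟩
  · rw [← heq] at hx
    obtain ⟨y, hy, e⟩ := hx
    rwa [← (MulAut.conj c).injective (e : MulAut.conj c y = MulAut.conj c x)]

theorem exists_norm_conj {n : Fin 8} (hn : n ∈ h.orb) :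
    ∃ g ∈ Subgroup.normalizer (h.EG : Set G), g * t * g⁻¹ = h.psi (EM n) := by
  haveI : Fact (Nat.Prime 2) := ⟨Nat.prime_two⟩
  obtain ⟨g, hg⟩ := h.mem_orb.1 hn
  set C := Subgroup.centralizer ({t} : Set G)
  set D := h.EG.map (MulAut.conj g⁻¹).toMonoidHom
  have hDC : D ≤ C := by
    rintro _ ⟨x, hx, rfl⟩
    obtain ⟨a, rfl⟩ := h.mem_EG.1 hx
    refine mem_centralizer_singleton_iff.2 ?_
    show g⁻¹ * h.psi (EM a) * g⁻¹⁻¹ * t = t * (g⁻¹ * h.psi (EM a) * g⁻¹⁻¹)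
    have e := h.psi_EM_comm a n
    rw [← hg] at e
    calc g⁻¹ * h.psi (EM a) * g⁻¹⁻¹ * t = g⁻¹ * (h.psi (EM a) * (g * t * g⁻¹)) * g := by group
      _ = t * (g⁻¹ * h.psi (EM a) * g⁻¹⁻¹) := by rw [e]; group
  have hDp : IsPGroup 2 (D.subgroupOf C) := IsPGroup.of_card (n := 3) (by
    rw [Nat.card_congr (subgroupOfEquivOfLe hDC).toEquiv,
      ← Nat.card_congr (h.EG.equivMapOfInjective _ (MulAut.conj g⁻¹).injective).toEquiv, h.card_EG]
    norm_num)
  obtain ⟨Q, hQ⟩ := hDp.exists_le_sylow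
  obtain ⟨k, hk⟩ := MulAction.exists_smul_eq C Q (S.subtype hS.1)
  have hmem : ((k : G) * g⁻¹) ∈ Subgroup.normalizer (h.EG : Set G) := by
    refine h.map_EG_of_le hS fun a => ?_
    have h1 : g⁻¹ * h.psi (EM a) * g⁻¹⁻¹ ∈ D := ⟨_, h.mem_EG.2 ⟨a, rfl⟩, rfl⟩
    have h2 : (⟨_, hDC h1⟩ : C) ∈ (Q : Subgroup C) := hQ h1
    have h3 : k * (⟨_, hDC h1⟩ : C) * k⁻¹ ∈ ((k • Q : Sylow 2 C) : Subgroup C) := ⟨_, h2, rfl⟩
    rw [hk] at h3
    have h4 : (k : G) * (g⁻¹ * h.psi (EM a) * g⁻¹⁻¹) * (k : G)⁻¹ ∈ (S : Subgroup G) := h3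
    convert h4 using 1
    group
  refine ⟨((k : G) * g⁻¹)⁻¹, inv_mem hmem, ?_⟩
  have hkt : (k : G) * t = t * k := mem_centralizer_singleton_iff.1 k.2
  calc ((k : G) * g⁻¹)⁻¹ * t * ((k : G) * g⁻¹)⁻¹⁻¹ = g * ((k : G)⁻¹ * (t * k)) * g⁻¹ := by group
    _ = h.psi (EM n) := by rw [← hkt, ← hg]; group

theorem le_normalizer : (S : Subgroup G) ≤ Subgroup.normalizer (h.EG : Set G) := by
  intro s hs
  refine h.map_EG_of_le hS fun n => ?_
  exact mul_mem (mul_mem hs (hS.2 (h.mem_EG.2 ⟨n, rfl⟩))) (inv_mem hs)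

theorem orb_odd : h.orb.card % 2 = 1 := by
  classical
  haveI : Fact (Nat.Prime 2) := ⟨Nat.prime_two⟩
  set N := Subgroup.normalizer (h.EG : Set G)
  set C := Subgroup.centralizer ({t} : Set G)
  choose c hcN hc using fun n : {n // n ∈ h.orb} => h.exists_norm_conj hS n.2
  let F : {n // n ∈ h.orb} × (N ⊓ C : Subgroup G) → N :=
    fun p => ⟨c p.1 * p.2.1, N.mul_mem (hcN p.1) p.2.2.1⟩
  have htc : ∀ p, (F p : G) * t * (F p : G)⁻¹ = h.psi (EM p.1.1) := by
    intro p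
    calc c p.1 * p.2.1 * t * (c p.1 * p.2.1)⁻¹
        = c p.1 * (p.2.1 * t) * (p.2.1 : G)⁻¹ * (c p.1)⁻¹ := by group
      _ = h.psi (EM p.1.1) := by
          rw [mem_centralizer_singleton_iff.1 p.2.2.2, ← hc]; group
  have hbij : Function.Bijective F := by
    constructor
    · rintro ⟨i, m⟩ ⟨j, m'⟩ e
      obtain rfl : i = j := Subtype.ext (EM_inj _ _ (h.psi_inj (by rw [← htc (i, m), e, htc])))
      exact Prod.ext rfl (Subtype.ext (by simpa [F] using congrArg Subtype.val e))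
    · rintro ⟨g, hg⟩
      obtain ⟨n, hn⟩ := h.mem_EG.1 ((Subgroup.mem_normalizer_iff.1 hg t).1 (h.mem_EG.2 ⟨4, h.psi_four⟩))
      have hno : n ∈ h.orb := h.mem_orb.2 ⟨g, hn.symm⟩
      refine ⟨(⟨n, hno⟩, ⟨(c ⟨n, hno⟩)⁻¹ * g, N.mul_mem (N.inv_mem (hcN _)) hg,
        mem_centralizer_singleton_iff.2 ?_⟩), Subtype.ext (by simp [F])⟩
      have h1 : g * t * g⁻¹ = c ⟨n, hno⟩ * t * (c ⟨n, hno⟩)⁻¹ := by rw [hc, hn]
      calc (c ⟨n, hno⟩)⁻¹ * g * t = (c ⟨n, hno⟩)⁻¹ * (g * t * g⁻¹) * g := by group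
        _ = t * ((c ⟨n, hno⟩)⁻¹ * g) := by rw [h1]; group
  have hcard := Nat.card_congr (Equiv.ofBijective F hbij)
  rw [Nat.card_prod, Nat.card_eq_finsetCard] at hcard
  by_contra hev
  have h2 : 2 ∣ h.orb.card := by omega
  obtain ⟨k, hk⟩ := IsPGroup.iff_card.1 S.2
  have hd1 : 2 ^ k ∣ Nat.card (N ⊓ C : Subgroup G) := hk ▸ card_dvd_of_le
    (le_inf (h.le_normalizer hS) hS.1)
  have hd : 2 ^ (k + 1) ∣ Nat.card G := by
    rw [pow_succ']
    exact (Nat.mul_dvd_mul h2 hd1).trans (hcard ▸ card_subgroup_dvd_card N)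
  have := S.pow_dvd_card_of_pow_dvd_card hd
  rw [hk, Nat.pow_dvd_pow_iff_le_right (by norm_num)] at this
  omega

theorem orb_all {n : Fin 8} (hn : n ≠ 0) : n ∈ h.orb :=
  (orbit_cases _ h.orb_facts).1 (h.orb_odd hS) n hn

omit hS

theorem exists_conj_EM {n : Fin 8} (hn : n ≠ 0) :
    ∃ g ∈ Subgroup.normalizer (h.EG : Set G), g * t * g⁻¹ = h.psi (EM n) := by
  obtain ⟨S, hS⟩ := h.exists_sylow
  exact h.exists_norm_conj hS (h.orb_all hS hn)

/-- Every involution of the weak closure is conjugate to `t`. -/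
theorem invol_conj {x : G} (hx : x ∈ WC t) (hx2 : orderOf x = 2) :
    ∃ n, n ≠ 0 ∧ ∃ w ∈ WC t, w * h.psi (EM n) * w⁻¹ = x := by
  obtain ⟨m, rfl⟩ := h.exists_psi hx
  have hm2 : m * m = 1 ∧ m ≠ 1 := by
    refine ⟨h.psi_inj ?_, fun e => ?_⟩
    · rw [map_mul, map_one, Cfsg.Lib.Invol.inv_mul_self hx2]
    · rw [e, map_one, orderOf_one] at hx2
      norm_num at hx2
  obtain ⟨n, hn0, c, hc⟩ := invol_EM m hm2
  exact ⟨n, hn0, h.psi c, h.psi_mem c, by rw [← hc]; simp⟩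

end Hyp

end Cfsg.Lib.J1Weak
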