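import Cfsg.Agent.Lib.J1Weak.Basic
import Cfsg.Agent.Lib.J1Weak.JFacts

/-!
# The case in which the weak closure is the whole centralizer
-/

set_option autoImplicit false
set_option linter.style.haveILetI false
set_option linter.unusedSectionVars false

namespace Cfsg.Lib.J1Weak

open Subgroup Cfsg Cfsg.Lib.J1Order Cfsg.Lib.J1Unique

theorem model_no_odd_normal : ∀ m : Model.M, (m ^ 15 = 1 ∧ m ≠ 1) →
    ∃ c : Model.M, ¬ (m * m * (c * m * c⁻¹)) ^ 15 = 1 := by decide +kernel

variable {G : Type*} [Group G] [Finite G] {t : G} {h : Hyp t}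

theorem Hyp.Core.small (c : h.Core) (hR : c.R = ⊥) :
    Spor.IsoJ1 ↥(Subgroup.normalClosure ({t} : Set G)) := by
  haveI : Fact (Nat.Prime 2) := ⟨Nat.prime_two⟩
  set N := Subgroup.normalClosure ({t} : Set G) with hN
  have htN : t ∈ N := Subgroup.subset_normalClosure rfl
  have hCW : ∀ d, d * t = t * d → d ∈ WC t := fun d hd => by
    obtain ⟨w, hw, r, hr, rfl⟩ := c.cent_mem hd
    rw [hR, mem_bot] at hr
    rw [hr, mul_one]; exact hw
  have hWN : WC t ≤ N := WC_le_of_conj Subgroup.normalClosure_normal htN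
  have hsN : c.s ∈ N := c.memN N Subgroup.normalClosure_normal (hWN (h.psi_mem _))
  obtain ⟨S, hS⟩ := h.exists_sylow
  have hSE : (S : Subgroup G) = h.EG := by
    rw [← h.inf_eq hS, left_eq_inf]
    exact fun x hx => hCW x (mem_centralizer_singleton_iff.1 (hS.1 hx))
  have hS8 : Nat.card (S : Subgroup G) = 8 := by rw [hSE, h.card_EG]
  have h16 : ¬ 16 ∣ Nat.card G := fun h16 => by
    have := S.pow_dvd_card_of_pow_dvd_card (n := 4) (by norm_num; exact h16)
    rw [hS8] at this
    norm_num at this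
  -- every involution of `N` is conjugate in `N` into `EG`
  have hEN : h.EG ≤ N := h.EG_le_WC.trans hWN
  have hSN : ∀ x ∈ N, orderOf x = 2 → ∃ k ∈ N, ∃ n, n ≠ 0 ∧ k * x * k⁻¹ = h.psi (EM n) := by
    intro x hx hx2
    obtain ⟨Q, hQ⟩ := (IsPGroup.of_card (n := 1) (by
      rw [Nat.card_zpowers, Subgroup.orderOf_mk, hx2, pow_one]) :
        IsPGroup 2 (zpowers (⟨x, hx⟩ : N))).exists_le_sylow
    obtain ⟨k, hk⟩ := MulAction.exists_smul_eq N Q (S.subtype (by rw [hSE]; exact hEN))
    have hmem : k * ⟨x, hx⟩ * k⁻¹ ∈ ((k • Q : Sylow 2 N) : Subgroup N) :=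
      ⟨_, hQ (mem_zpowers _), rfl⟩
    rw [hk] at hmem
    have hmem' : (k : G) * x * (k : G)⁻¹ ∈ h.EG := hSE ▸ hmem
    obtain ⟨n, hn⟩ := h.mem_EG.1 hmem'
    refine ⟨k, k.2, n, ?_, hn.symm⟩
    rintro rfl
    rw [EM_vals.2.2.2.2.2, map_one] at hn
    rw [conj_eq_one_iff.1 hn.symm, orderOf_one] at hx2
    norm_num at hx2
  haveI hsimple : IsSimpleGroup N := by
    haveI : Nontrivial N := ⟨⟨t, htN⟩, 1, fun e => by
      have := h.ord
      rw [show t = 1 from congrArg Subtype.val e, orderOf_one] at this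
      norm_num at this⟩
    refine ⟨fun K hK => ?_⟩
    set K' := K.map N.subtype with hK'
    have hK'N : K' ≤ N := map_subtype_le K
    have hnorm : ∀ g ∈ N, ∀ x ∈ K', g * x * g⁻¹ ∈ K' := by
      rintro g hg _ ⟨x, hx, rfl⟩
      exact ⟨_, hK.conj_mem x hx ⟨g, hg⟩, rfl⟩
    by_cases hinv : ∃ x ∈ K', orderOf x = 2
    · right
      obtain ⟨x, hx, hx2⟩ := hinv
      obtain ⟨k, hk, n, hn0, hkn⟩ := hSN x (hK'N hx) hx2
      obtain ⟨i, hi⟩ := c.orbit n hn0
      have htK : t ∈ K' := by
        have h1 := hnorm _ hk _ hx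
        rw [hkn, ← hi, ← c.spow] at h1
        have h2 := hnorm _ (inv_mem (pow_mem hsN i)) _ h1
        convert h2 using 1
        group
      have hall : ∀ g : G, g * t * g⁻¹ ∈ K' := by
        intro g
        obtain ⟨k, hk, n, hn0, hkn⟩ := hSN _ (Subgroup.normalClosure_normal.conj_mem t htN g)
          (by rw [Cfsg.Lib.Invol.orderOf_conj_eq, h.ord])
        obtain ⟨i, hi⟩ := c.orbit n hn0
        have h1 := hnorm _ (pow_mem hsN i) _ htK
        rw [c.spow, hi, ← hkn] at h1
        have h2 := hnorm _ (inv_mem hk) _ h1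
        convert h2 using 1
        group
      have hle : N ≤ K' := by
        rw [hN, Subgroup.normalClosure, Subgroup.closure_le]
        intro y hy
        obtain ⟨a, ha, hay⟩ := Group.mem_conjugatesOfSet_iff.1 hy
        obtain rfl : a = t := ha
        obtain ⟨g, rfl⟩ := isConj_iff.1 hay
        exact hall g
      rw [eq_top_iff]
      intro y _
      obtain ⟨z, hz, e⟩ := hle y.2
      rwa [← Subtype.ext (show (z : G) = y from e)]
    · left
      push Not at hinv
      have hodd : Odd (Nat.card K') := by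
        rw [← Nat.not_even_iff_odd, even_iff_two_dvd]
        intro h2
        obtain ⟨y, hy⟩ := exists_prime_orderOf_dvd_card' (G := K') 2 h2
        exact hinv (y : G) y.2 (by rw [Subgroup.orderOf_coe, hy])
      have hWK : ∀ o ∈ K', o ∈ WC t → o = 1 := by
        intro o ho hoW
        obtain ⟨m, rfl⟩ := h.exists_psi hoW
        by_contra hne
        have hm15 : ∀ m', h.psi m' ∈ K' → m' ^ 15 = 1 := by
          intro m' hm'
          have h1 : Odd (orderOf (h.psi m')) :=
            hodd.of_dvd_nat (by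
              have := orderOf_dvd_natCard (⟨_, hm'⟩ : K')
              rwa [Subgroup.orderOf_mk] at this)
          rw [orderOf_injective h.psi h.psi_inj] at h1
          have h2 : orderOf m' ∣ 2 * 15 := orderOf_dvd_of_pow_eq_one (Model.pow_thirty _)
          exact orderOf_dvd_iff_pow_eq_one.1
            (Nat.Coprime.dvd_of_dvd_mul_left (Nat.coprime_two_right.2 h1) h2)
        obtain ⟨a, ha⟩ := model_no_odd_normal m ⟨hm15 m ho, fun e => hne (by rw [e, map_one])⟩
        refine ha (hm15 _ ?_)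
        rw [map_mul, map_mul, map_mul, map_mul, map_inv]
        exact mul_mem (mul_mem ho ho) (hnorm _ (hWN (h.psi_mem a)) _ ho)
      have hfix : ∀ n, n ≠ 0 → ∀ o ∈ K', o * h.psi (EM n) = h.psi (EM n) * o → o = 1 := by
        intro n hn o ho hc
        obtain ⟨i, hi⟩ := c.orbit n hn
        rw [← hi, ← c.spow] at hc
        have h1 : (c.s ^ i)⁻¹ * o * c.s ^ i ∈ K' := by
          have := hnorm _ (inv_mem (pow_mem hsN i)) _ ho
          rwa [inv_inv] at this
        have h2 : (c.s ^ i)⁻¹ * o * c.s ^ i * t = t * ((c.s ^ i)⁻¹ * o * c.s ^ i) := by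
          calc (c.s ^ i)⁻¹ * o * c.s ^ i * t
              = (c.s ^ i)⁻¹ * (o * (c.s ^ i * t * (c.s ^ i)⁻¹)) * c.s ^ i := by group
            _ = _ := by rw [hc]; group
        have h3 := hWK _ h1 (hCW _ h2)
        calc o = c.s ^ i * ((c.s ^ i)⁻¹ * o * c.s ^ i) * (c.s ^ i)⁻¹ := by group
          _ = 1 := by rw [h3]; group
      have hinvert : ∀ n, n ≠ 0 → ∀ o ∈ K', h.psi (EM n) * o * (h.psi (EM n))⁻¹ = o⁻¹ := by
        intro n hn
        refine (Cfsg.Lib.BSW.inverts_of_no_fixed (A := K') (u := h.psi (EM n))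
          (by rw [← map_mul, (EM_invol n).1, map_one])
          (fun o ho => hnorm _ (hEN (h.mem_EG.2 ⟨n, rfl⟩)) o ho)
          (fun o ho hc => hfix n hn o ho hc.symm)).1
      rw [eq_bot_iff]
      intro y hy
      have ho : (y : G) ∈ K' := ⟨y, hy, rfl⟩
      have e1 := hinvert 1 (by decide) _ ho
      have e4 := hinvert 4 (by decide) _ (inv_mem ho)
      have e5 := hinvert 5 (by decide) _ ho
      rw [show EM 5 = EM 4 * EM 1 by rw [EM_mul]; rfl, map_mul] at e5
      have e6 : (y : G) = (y : G)⁻¹ := by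
        rw [← e5]
        calc (y : G) = (y : G)⁻¹⁻¹ := (inv_inv _).symm
          _ = h.psi (EM 4) * (y : G)⁻¹ * (h.psi (EM 4))⁻¹ := e4.symm
          _ = _ := by rw [← e1]; group
      rw [mem_bot]
      by_contra hne
      refine hinv _ ho (orderOf_eq_prime ?_ fun e => hne (Subtype.ext e))
      rw [pow_two]
      nth_rw 2 [e6]
      exact mul_inv_cancel _
  -- the centralizer in `N`
  set tN : N := ⟨t, htN⟩
  have hmap : (Subgroup.centralizer ({tN} : Set N)).map N.subtype = WC t := by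
    refine le_antisymm ?_ fun x hx => ⟨⟨x, hWN hx⟩, ?_, rfl⟩
    · rintro _ ⟨x, hx, rfl⟩
      exact hCW _ (congrArg Subtype.val (mem_centralizer_singleton_iff.1 hx))
    · exact mem_centralizer_singleton_iff.2
        (Subtype.ext (mem_centralizer_singleton_iff.1 (h.WC_le hx)))
  let eN : Subgroup.centralizer ({tN} : Set N) ≃* Model.M :=
    ((Subgroup.centralizer ({tN} : Set N)).equivMapOfInjective _ N.subtype_injective).trans
      ((MulEquiv.subgroupCongr hmap).trans h.e)
  haveI : IsSimpleGroup ↥Cfsg.Spor.J1 := Cfsg.Lib.H3.JankoOne.simple_J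
  haveI : Finite ↥Cfsg.Spor.J1 :=
    Nat.finite_of_card_ne_zero (by rw [Cfsg.Lib.H3.JankoOne.card_J]; norm_num)
  obtain ⟨u, hu, ⟨f⟩⟩ := Cfsg.Agent.S2131.result
  refine Cfsg.Lib.J1Unique.iso eN (isTwoCentral (by rw [Subgroup.orderOf_mk, h.ord]) eN fun h' =>
      h16 (h'.trans (card_subgroup_dvd_card N)))
    (isTwoCentral hu f (by rw [Cfsg.Lib.H3.JankoOne.card_J]; norm_num)) f

end Cfsg.Lib.J1Weak
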